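import Cfsg.Agent.J4Mult.Defs

/-! Generated: kernel checks on the pairs. -/

set_option autoImplicit false
set_option Elab.async false
set_option maxRecDepth 100000

namespace Cfsg.Agent.J4Mult

open Cfsg.Agent.CosetCert

theorem conj_x_ok : allFrom (conjB .x 0x94e0ab5c75494c1151e0235c78ad88) 0 24 = true := by decide +kernel

theorem conj_y_ok : allFrom (conjB .y 0x15ea384a2c015536ad28a3c8e3d826) 0 24 = true := by decide +kernel

end Cfsg.Agent.J4Mult
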