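import Cfsg.Agent.J4Mult.Defs

/-! Generated: kernel checks on the pairs. -/

set_option autoImplicit false
set_option Elab.async false
set_option maxRecDepth 100000

namespace Cfsg.Agent.J4Mult

open Cfsg.Agent.CosetCert

theorem def_ok0 : allFrom defB 0 8 = true := by decide +kernel

theorem def_ok8 : allFrom defB 8 8 = true := by decide +kernel

theorem def_ok16 : allFrom defB 16 8 = true := by decide +kernel

end Cfsg.Agent.J4Mult
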