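import Cfsg.Agent.J4Mult.ElevenData

/-! Generated: kernel check of the inverting involution. -/

set_option autoImplicit false
set_option Elab.async false
set_option maxRecDepth 100000

namespace Cfsg.Agent.J4Mult

open Cfsg.Agent.J4Rep Cfsg.Agent.J4Lower

theorem inv_b_ok : idB mat 112 (invertW ++ bW ++ invW invertW ++ bW ++ invW (powW 10 zW)) = true := by decide +kernel

end Cfsg.Agent.J4Mult
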