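import Cfsg.Agent.J4Mult.CheckDef
import Cfsg.Agent.J4Mult.CheckComm
import Cfsg.Agent.J4Mult.CheckConj
import Cfsg.Agent.J4M24.Main

/-!
# The pairs in the presented J4

Identities of matrices become identities in the group when the representation is faithful.
-/

set_option autoImplicit false
set_option maxRecDepth 100000

namespace Cfsg.Agent.J4Mult

open Cfsg Cfsg.Agent.J4Rep Cfsg.Agent.CosetCert Cfsg.Agent.Compute

/-- The image of a word. -/
noncomputable def el (w : List (Spor.J4.Gen × Bool)) : Spor.J4 :=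
  PresentedGroup.mk (Spor.coxRelators Spor.J4.edges ∪ {r | r ∈ Spor.J4.extra}) (FreeGroup.mk w)

theorem rho_el (w : List (Spor.J4.Gen × Bool)) :
    rho (el w) = (w.map fun a => bif a.2 then genPerm a.1 else (genPerm a.1)⁻¹).prod := by
  show PresentedGroup.toGroup relators_hold (PresentedGroup.mk _ (FreeGroup.mk w)) = _
  exact FreeGroup.lift_mk

theorem el_append (u v : List (Spor.J4.Gen × Bool)) : el (u ++ v) = el u * el v := by
  rw [el, el, el, ← map_mul, FreeGroup.mul_mk]

theorem el_nil : el [] = 1 := by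
  rw [el, ← FreeGroup.one_eq_mk, map_one]

/-- The element of the pair of the point numbered `n` and the last point. -/
noncomputable def fEl (n : Nat) : Spor.J4 := el (fWord n)

/-- The elements of the letters. -/
noncomputable def elE : (Spor.J4.Gen × Bool) ⊕ Nat → Spor.J4
  | .inl a => el [a]
  | .inr n => fEl n

theorem el_eq_prod (w : List (Spor.J4.Gen × Bool)) : el w = (w.map fun a => el [a]).prod := by
  induction w with
  | nil => exact el_nil
  | cons a w ih => rw [List.map_cons, List.prod_cons, ← ih, ← el_append]; rfl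

theorem rho_fEl_apply {n : Nat} (hn : n < 24) (v : Vec 112) :
    (rho (fEl n) v).1 = app (fCols n) v.1 := by
  have h : defB n = true := by
    rcases Nat.lt_or_ge n 8 with h | h
    · exact (allFrom_iff _ _ _).1 def_ok0 n (Nat.zero_le _) h
    rcases Nat.lt_or_ge n 16 with h' | h'
    · exact (allFrom_iff _ _ _).1 def_ok8 n h h'
    · exact (allFrom_iff _ _ _).1 def_ok16 n h' hn
  rw [defB, Bool.and_eq_true] at h
  have hrun : ∀ (w : List (Spor.J4.Gen × Bool)) (x : Nat),
      run matE (w.map Sum.inl) x = run mat w x := by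
    intro w x
    induction w with
    | nil => rfl
    | cons a w ih => rw [List.map_cons, run_cons, run_cons, ih]; rfl
  have hrun' : ∀ (u w : List ((Spor.J4.Gen × Bool) ⊕ Nat)) (x : Nat),
      run matE (u ++ w) x = run matE u (run matE w x) := by
    intro u w x
    induction u with
    | nil => rfl
    | cons a u ih => rw [List.cons_append, run_cons, run_cons, ih]
  have hsmall : smallB 112 (fCols n) = true := by
    have h2 := h.2
    unfold idB at h2
    cases hw : ([Sum.inr n, Sum.inr n] : List ((Spor.J4.Gen × Bool) ⊕ Nat)).all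
        (fun a => Nat.ble (matE a).length 112 && smallB 112 (matE a))
    · simp [hw] at h2
    · simp only [List.all_eq_true, Bool.and_eq_true] at hw
      exact (hw (Sum.inr n) List.mem_cons_self).2
  have hlt := lt_of_smallB hsmall v.1
  have h2 := run_eq_self h.2 v.2
  rw [run_cons, run_cons] at h2
  have h1 := run_eq_self h.1 hlt
  rw [hrun', run_cons, hrun] at h1
  change run mat (fWord n) (app (matE (Sum.inr n)) (app (fCols n) v.1)) = app (fCols n) v.1 at h1
  change app (fCols n) (app (fCols n) v.1) = v.1 at h2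
  change run mat (fWord n) (app (fCols n) (app (fCols n) v.1)) = app (fCols n) v.1 at h1
  rw [h2] at h1
  rw [fEl, rho_el, prod_apply mat _ letter_apply, h1]

theorem elE_apply (a : (Spor.J4.Gen × Bool) ⊕ Nat) (ha : ∀ n, a = Sum.inr n → n < 24) (v : Vec 112) :
    (rho (elE a) v).1 = app (matE a) v.1 := by
  rcases a with a | n
  · show (rho (el [a]) v).1 = app (mat a) v.1
    rw [rho_el, prod_apply mat _ letter_apply, run_cons]
    rfl
  · exact rho_fEl_apply (ha n rfl) v

variable (hinj : Function.Injective rho)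
include hinj

theorem prod_elE {w : List ((Spor.J4.Gen × Bool) ⊕ Nat)} (hw : ∀ n, Sum.inr n ∈ w → n < 24)
    (h : idB matE 112 w = true) : (w.map elE).prod = 1 := by
  apply hinj
  rw [map_list_prod, List.map_map, map_one]
  refine Equiv.ext fun v => Subtype.ext ?_
  have key : ∀ (u : List ((Spor.J4.Gen × Bool) ⊕ Nat)), (∀ n, Sum.inr n ∈ u → n < 24) →
      ((u.map (rho ∘ elE)).prod v).1 = run matE u v.1 := by
    intro u
    induction u with
    | nil => intro _; rfl
    | cons a u ih =>
      intro hu
      rw [List.map_cons, List.prod_cons, Equiv.Perm.mul_apply, Function.comp_apply,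
        elE_apply a (fun n e => hu n (e ▸ List.mem_cons_self)),
        ih (fun n hn => hu n (List.mem_cons_of_mem _ hn)), run_cons]
  rw [key w hw, run_eq_self h v.2]
  rfl

theorem fEl_sq {n : Nat} (hn : n < 24) : fEl n * fEl n = 1 := by
  have h : defB n = true := by
    rcases Nat.lt_or_ge n 8 with h | h
    · exact (allFrom_iff _ _ _).1 def_ok0 n (Nat.zero_le _) h
    rcases Nat.lt_or_ge n 16 with h' | h'
    · exact (allFrom_iff _ _ _).1 def_ok8 n h h'
    · exact (allFrom_iff _ _ _).1 def_ok16 n h' hn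
  rw [defB, Bool.and_eq_true] at h
  have := prod_elE hinj (w := [Sum.inr n, Sum.inr n]) (by simp [hn]) h.2
  simpa [elE] using this

theorem fEl_comm {a b : Nat} (ha : a < 24) (hb : b < 24) : fEl a * fEl b = fEl b * fEl a := by
  have hk : a * 24 + b < 576 := by omega
  have h : commB (a * 24 + b) = true := by
    rcases Nat.lt_or_ge (a * 24 + b) 144 with h | h
    · exact (allFrom_iff _ _ _).1 comm_ok0 _ (Nat.zero_le _) h
    rcases Nat.lt_or_ge (a * 24 + b) 288 with h' | h'
    · exact (allFrom_iff _ _ _).1 comm_ok144 _ h h'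
    rcases Nat.lt_or_ge (a * 24 + b) 432 with h'' | h''
    · exact (allFrom_iff _ _ _).1 comm_ok288 _ h' h''
    · exact (allFrom_iff _ _ _).1 comm_ok432 _ h'' hk
  rw [commB, show (a * 24 + b) / 24 = a by omega, show (a * 24 + b) % 24 = b by omega] at h
  have h4 := prod_elE hinj (w := [Sum.inr a, Sum.inr b, Sum.inr a, Sum.inr b])
    (by simp [ha, hb]) h
  simp only [List.map_cons, List.map_nil, List.prod_cons, List.prod_nil, mul_one, elE] at h4
  have sa := fEl_sq hinj ha
  have sb := fEl_sq hinj hb
  calc fEl a * fEl b = (fEl b * fEl b) * (fEl a * fEl b) := by rw [sb, one_mul]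
    _ = fEl b * ((fEl a * fEl a) * (fEl b * (fEl a * fEl b))) := by rw [sa, one_mul, mul_assoc]
    _ = fEl b * fEl a * (fEl a * (fEl b * (fEl a * fEl b))) := by simp only [mul_assoc]
    _ = fEl b * fEl a := by rw [h4, mul_one]

omit hinj in
theorem fEl_last : fEl 23 = 1 := el_nil

/-- The element of the pair of a point and the extra point. -/
noncomputable def pairEl (p : GolayPt) : Spor.J4 := fEl (ptIdx p)

theorem pairEl_sq (p : GolayPt) : pairEl p * pairEl p = 1 := fEl_sq hinj (ptIdx_lt p)

theorem pairEl_comm (p q : GolayPt) : pairEl p * pairEl q = pairEl q * pairEl p :=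
  fEl_comm hinj (ptIdx_lt p) (ptIdx_lt q)

theorem conj_gen (g : Spor.J4.Gen) (c : ℕ) (hok : rep24.Ok c)
    (hall : allFrom (conjB g c) 0 24 = true) (p : GolayPt) :
    el [(g, true)] * fEl (ptIdx p) * (el [(g, true)])⁻¹ =
      fEl (ptIdx (rep24.den c none)) * fEl (ptIdx (rep24.den c p)) := by
  have h := (allFrom_iff _ _ _).1 hall (ptIdx p) (Nat.zero_le _) (by simpa using ptIdx_lt p)
  have hact : ∀ q, getField 5 c (ptIdx q) = ptIdx (rep24.den c q) := fun q => (ptIdx_den hok q).symm
  have h23 : getField 5 c 23 = ptIdx (rep24.den c none) := hact none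
  rw [conjB, hact, h23] at h
  have h5 := prod_elE hinj (w := [Sum.inl (g, true), Sum.inr (ptIdx p), Sum.inl (g, false),
    Sum.inr (ptIdx (rep24.den c p)), Sum.inr (ptIdx (rep24.den c none))]) (by
      intro n hn
      simp only [List.mem_cons, Sum.inr.injEq, reduceCtorEq, List.not_mem_nil, or_false, false_or] at hn
      rcases hn with rfl | rfl | rfl <;> exact ptIdx_lt _) h
  simp only [List.map_cons, List.map_nil, List.prod_cons, List.prod_nil, mul_one, elE] at h5
  have hinv : el [(g, false)] = (el [(g, true)])⁻¹ := by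
    rw [el, el, ← map_inv, FreeGroup.inv_mk]
    rfl
  rw [hinv] at h5
  have sa := fEl_sq hinj (ptIdx_lt (rep24.den c p))
  have sb := fEl_sq hinj (ptIdx_lt (rep24.den c none))
  calc el [(g, true)] * fEl (ptIdx p) * (el [(g, true)])⁻¹
      = el [(g, true)] * fEl (ptIdx p) * (el [(g, true)])⁻¹ *
          (fEl (ptIdx (rep24.den c p)) * (fEl (ptIdx (rep24.den c none)) *
            fEl (ptIdx (rep24.den c none))) * fEl (ptIdx (rep24.den c p))) := by
        rw [sb, mul_one, sa, mul_one]
    _ = el [(g, true)] * (fEl (ptIdx p) * ((el [(g, true)])⁻¹ * (fEl (ptIdx (rep24.den c p)) *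
          fEl (ptIdx (rep24.den c none))))) *
            (fEl (ptIdx (rep24.den c none)) * fEl (ptIdx (rep24.den c p))) := by
        simp only [mul_assoc]
    _ = _ := by rw [h5, one_mul]

omit hinj in
/-- The copy of the group of the code. -/
theorem exists_iota : ∃ ι : M24 →* Spor.J4, Function.Injective ι ∧
    ∀ (b : Fin 2) (m : M24), (m : Equiv.Perm GolayPt) = J4M24.xyPerm b →
      ι m = el [(J4M24.jGen b, true)] := by
  obtain ⟨hfin, hle⟩ := J4M24.card_Q
  have : Finite J4M24.Q := hfin
  let f : J4M24.Q →* M24 :=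
    J4M24.toPerms.codRestrict M24 fun q => J4M24.range_toPerms ▸ ⟨q, rfl⟩
  have hf : Function.Surjective f := by
    rintro ⟨g, hg⟩
    have hg' : g ∈ J4M24.toPerms.range := J4M24.range_toPerms.symm ▸ hg
    obtain ⟨q, rfl⟩ := hg'
    exact ⟨q, rfl⟩
  have hb : Function.Bijective f :=
    (Nat.bijective_iff_surjective_and_card f).2
      ⟨hf, le_antisymm (hle.trans card_m24.ge) (Nat.card_le_card_of_surjective f hf)⟩
  let e : J4M24.Q ≃* M24 := MulEquiv.ofBijective f hb
  obtain ⟨j, hj⟩ := exists_rename J4M24Q.relWords J4M24.jGen J4M24.rels_j4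
  refine ⟨j.comp e.symm.toMonoidHom, ?_, fun b m hm => ?_⟩
  · rw [← MonoidHom.ker_eq_bot_iff]
    have : IsSimpleGroup M24 := isSimpleGroup_m24
    rcases (j.comp e.symm.toMonoidHom).normal_ker.eq_bot_or_eq_top with h | h
    · exact h
    · exfalso
      refine J4Rep.of_x_ne_one ?_
      have h0 : e (PresentedGroup.of (0 : Fin 2)) ∈ (j.comp e.symm.toMonoidHom).ker :=
        h ▸ Subgroup.mem_top _
      rw [MonoidHom.mem_ker, MonoidHom.comp_apply, MulEquiv.coe_toMonoidHom,
        MulEquiv.symm_apply_apply, show (PresentedGroup.of (0 : Fin 2) : J4M24.Q) =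
          PresentedGroup.mk _ (FreeGroup.of 0) from rfl, hj, FreeGroup.map.of] at h0
      exact h0
  · have hm' : m = e (PresentedGroup.of b) :=
      Subtype.ext (hm.trans (PresentedGroup.toGroup.of J4M24.perm_relators).symm)
    rw [hm', MonoidHom.comp_apply, MulEquiv.coe_toMonoidHom, MulEquiv.symm_apply_apply,
      show (PresentedGroup.of b : J4M24.Q) = PresentedGroup.mk _ (FreeGroup.of b) from rfl, hj,
      FreeGroup.map.of]
    rfl

theorem pairs_conj (ι : M24 →* Spor.J4)
    (hι : ∀ (b : Fin 2) (m : M24), (m : Equiv.Perm GolayPt) = J4M24.xyPerm b →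
      ι m = el [(J4M24.jGen b, true)]) (m : M24) (p : GolayPt) :
    ι m * pairEl p * (ι m)⁻¹ = pairEl (m • none) * pairEl (m • p) := by
  let P : M24 → Prop := fun m => ∀ p, ι m * pairEl p * (ι m)⁻¹ = pairEl (m • none) * pairEl (m • p)
  have hgen : ∀ (b : Fin 2) (m : M24), (m : Equiv.Perm GolayPt) = J4M24.xyPerm b → P m := by
    intro b m hm p
    have hsmul : ∀ q : GolayPt, m • q = rep24.den (J4M24.xyCode (b, true)) q := fun q => by
      show (m : Equiv.Perm GolayPt) q = _
      rw [hm]; rfl
    have hok := rep24.okb_sound _ (J4M24.xyCode_ok (b, true))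
    rw [hι b m hm, hsmul, hsmul]
    fin_cases b
    · exact conj_gen hinj .x _ hok conj_x_ok p
    · exact conj_gen hinj .y _ hok conj_y_ok p
  have hmul : ∀ g h, P g → P h → P (g * h) := by
    intro g h hg hh p
    rw [map_mul, mul_smul, mul_smul]
    calc ι g * ι h * pairEl p * (ι g * ι h)⁻¹
        = ι g * (ι h * pairEl p * (ι h)⁻¹) * (ι g)⁻¹ := by group
      _ = (ι g * pairEl (h • none) * (ι g)⁻¹) * (ι g * pairEl (h • p) * (ι g)⁻¹) := by rw [hh]; group
      _ = pairEl (g • none) * pairEl (g • h • none) *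
            (pairEl (g • none) * pairEl (g • h • p)) := by rw [hg, hg]
      _ = (pairEl (g • h • none) * pairEl (g • none)) *
            (pairEl (g • none) * pairEl (g • h • p)) := by rw [pairEl_comm hinj (g • none)]
      _ = pairEl (g • h • none) * pairEl (g • h • p) := by
          rw [mul_assoc, ← mul_assoc (pairEl (g • none)), pairEl_sq hinj, one_mul]
  have hone : P 1 := fun p => by
    rw [map_one, one_smul, one_smul, one_mul, inv_one, mul_one]
    show pairEl p = fEl 23 * pairEl p
    rw [fEl_last, one_mul]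
  have hpow : ∀ g, P g → ∀ n : ℕ, P (g ^ n) := fun g hg n => by
    induction n with
    | zero => rw [pow_zero]; exact hone
    | succ n ih => rw [pow_succ]; exact hmul _ _ ih hg
  suffices hall : ∀ g, ∀ hg : g ∈ rep24.span J4M24.xyCodes, P ⟨g, J4M24.span_xy ▸ hg⟩ from
    hall m.1 (J4M24.span_xy.symm ▸ m.2) p
  intro g hg
  change g ∈ Subgroup.closure _ at hg
  induction hg using Subgroup.closure_induction with
  | mem g hg =>
    obtain ⟨c, hc, rfl⟩ := hg
    have hc' : c ∈ J4M24.xyCodes := hc
    rw [J4M24.xyCodes_eq] at hc'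
    simp only [List.mem_cons, List.not_mem_nil, or_false] at hc'
    rcases hc' with rfl | rfl
    · exact hgen 0 _ rfl
    · exact hgen 1 _ rfl
  | one => exact hone
  | mul a b ha hb h1 h2 => exact hmul ⟨a, J4M24.span_xy ▸ ha⟩ ⟨b, J4M24.span_xy ▸ hb⟩ h1 h2
  | inv a ha h1 =>
    have hfin : Finite M24 := Nat.finite_of_card_ne_zero (by rw [card_m24]; norm_num)
    have h := hpow _ h1 (Nat.card M24 - 1)
    have he : (⟨a, J4M24.span_xy ▸ ha⟩ : M24) ^ (Nat.card M24 - 1) = ⟨a, J4M24.span_xy ▸ ha⟩⁻¹ := by
      refine eq_inv_of_mul_eq_one_left ?_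
      rw [← pow_succ, Nat.sub_add_cancel Nat.card_pos, pow_card_eq_one']
    rw [he] at h
    exact h

end Cfsg.Agent.J4Mult
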