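import Cfsg.Agent.J4Mult.Data
import Cfsg.Agent.J4Rep.Data
import Cfsg.Agent.J4M24.Data
import Cfsg.Agent.Compute.Perm

/-!
# The identities to check among the matrices
-/

set_option autoImplicit false

namespace Cfsg.Agent.J4Mult

open Cfsg.Agent.J4Rep Cfsg.Agent.CosetCert
open Cfsg.Spor.J4 (Gen)

/-- Letters with the matrices of the pairs. -/
def matE : (Gen × Bool) ⊕ Nat → List Nat
  | .inl a => mat a
  | .inr n => fCols n

/-- The matrix is the one of the word, and is an involution. -/
noncomputable def defB (n : Nat) : Bool :=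
  idB matE 112 ((fWord n).map Sum.inl ++ [Sum.inr n]) && idB matE 112 [Sum.inr n, Sum.inr n]

/-- Two pairs commute. -/
noncomputable def commB (k : Nat) : Bool :=
  idB matE 112 [Sum.inr (k / 24), Sum.inr (k % 24), Sum.inr (k / 24), Sum.inr (k % 24)]

/-- A generator with code `c` moves the pairs as it moves the points. -/
noncomputable def conjB (g : Gen) (c a : Nat) : Bool :=
  idB matE 112 [Sum.inl (g, true), Sum.inr a, Sum.inl (g, false),
    Sum.inr (Cfsg.Agent.Compute.getField 5 c a), Sum.inr (Cfsg.Agent.Compute.getField 5 c 23)]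

end Cfsg.Agent.J4Mult
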