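import Cfsg.Agent.Co2Mult.Transfer

/-!
# An extraspecial group of order `11 ^ 3` inverted modulo its centre

Its preimage in a central extension of a perfect group has a derived group that meets the kernel
trivially, so the kernel has exponent dividing the index.
-/

set_option autoImplicit false

namespace Cfsg.Agent.J4Mult

open scoped commutatorElement

variable {Γ G : Type*} [Group Γ] [Group G]

theorem eleven_pow_index [Finite Γ] (σ : Γ →* G) (hσ : Function.Surjective σ)
    (hker : σ.ker ≤ Subgroup.center Γ) (hperf : commutator Γ = ⊤) {a b c h : G}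
    (hc : c = ⁅a, b⁆) (hac : a * c = c * a) (hbc : b * c = c * b) (ha : a ^ 11 = 1)
    (hc1 : c ≠ 1) (i j : ℤ) (hha : h * a * h⁻¹ = a⁻¹ * c ^ i) (hhb : h * b * h⁻¹ = b⁻¹ * c ^ j)
    (hhc : h * c * h⁻¹ = c) {z : Γ} (hz : z ∈ σ.ker) :
    z ^ (Subgroup.closure ({a, b} : Set G)).index = 1 := by
  obtain ⟨A, rfl⟩ := hσ a
  obtain ⟨B, rfl⟩ := hσ b
  obtain ⟨H, rfl⟩ := hσ h
  have hcomm : ∀ {x x' y y' : Γ}, σ x = σ x' → σ y = σ y' → ⁅x, y⁆ = ⁅x', y'⁆ := by
    intro x x' y y' hx hy
    have h1 : x'⁻¹ * x ∈ σ.ker := by rw [MonoidHom.mem_ker, map_mul, map_inv, hx, inv_mul_cancel]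
    have h2 : y'⁻¹ * y ∈ σ.ker := by rw [MonoidHom.mem_ker, map_mul, map_inv, hy, inv_mul_cancel]
    conv_lhs => rw [show x = x' * (x'⁻¹ * x) by group, show y = y' * (y'⁻¹ * y) by group]
    exact Cfsg.Agent.StemCert.commutator_mul_central x' y' (hker h1) (hker h2)
  have hcen : ∀ {x : Γ}, σ x = 1 → ∀ y, y * x = x * y := fun {x} hx y =>
    Subgroup.mem_center_iff.1 (hker (MonoidHom.mem_ker.2 hx)) y
  set C := ⁅A, B⁆ with hC
  have hσC : σ C = c := by rw [hC, map_commutatorElement, hc]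
  -- a commutator with `C` is killed by the inverting element
  have main : ∀ (X : Γ) (k : ℤ), σ X * c = c * σ X → σ H * σ X * (σ H)⁻¹ = (σ X)⁻¹ * c ^ k →
      σ X ^ 11 = 1 → X * C = C * X := by
    intro X k hXc hXh hX11
    have hζ : σ ⁅X, C⁆ = 1 := by
      rw [map_commutatorElement, hσC, commutatorElement_eq_one_iff_mul_comm]; exact hXc
    have hpow : ∀ n : ℕ, ⁅X ^ n, C⁆ = ⁅X, C⁆ ^ n := by
      intro n
      induction n with
      | zero => simp
      | succ n ih =>
        calc ⁅X ^ (n + 1), C⁆ = X ^ n * ⁅X, C⁆ * (X ^ n)⁻¹ * ⁅X ^ n, C⁆ := by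
              simp only [commutatorElement_def, pow_succ]; group
          _ = ⁅X, C⁆ * ⁅X ^ n, C⁆ := by rw [hcen hζ, mul_inv_cancel_right]
          _ = ⁅X, C⁆ ^ (n + 1) := by rw [ih, pow_succ']
    have h11 : ⁅X, C⁆ ^ 11 = 1 := by
      rw [← hpow, commutatorElement_eq_one_iff_mul_comm]
      exact (hcen (by rw [map_pow, hX11]) C).symm
    have h2 : ⁅X, C⁆ = ⁅X, C⁆⁻¹ := by
      calc ⁅X, C⁆ = H * ⁅X, C⁆ * H⁻¹ := by rw [hcen hζ, mul_inv_cancel_right]
        _ = ⁅H * X * H⁻¹, H * C * H⁻¹⁆ := by simp only [commutatorElement_def]; group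
        _ = ⁅X⁻¹ * C ^ k, C⁆ := hcomm (by simp [hXh, hσC]) (by simp [hhc, hσC])
        _ = X⁻¹ * ⁅X, C⁆⁻¹ * X := by simp only [commutatorElement_def]; group
        _ = ⁅X, C⁆⁻¹ := by
          rw [mul_assoc, ← hcen (show σ ⁅X, C⁆⁻¹ = 1 by rw [map_inv, hζ, inv_one]) X, ← mul_assoc,
            inv_mul_cancel, one_mul]
    have h2' : ⁅X, C⁆ ^ 2 = 1 := by
      rw [pow_two]
      nth_rewrite 2 [h2]
      exact mul_inv_cancel _
    rw [← commutatorElement_eq_one_iff_mul_comm]
    have h10 : ⁅X, C⁆ ^ 10 = 1 := by rw [show 10 = 2 * 5 from rfl, pow_mul, h2', one_pow]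
    rwa [pow_succ, h10, one_mul] at h11
  have hAC : A * C = C * A := main A i hac hha ha
  have hBC : B * C = C * B := by
    -- only the eleventh power of `A` is needed for `B`
    have hζ : σ ⁅B, C⁆ = 1 := by
      rw [map_commutatorElement, hσC, commutatorElement_eq_one_iff_mul_comm]; exact hbc
    have hpow : ∀ n : ℕ, ⁅A ^ n, B⁆ = C ^ n := by
      intro n
      induction n with
      | zero => simp
      | succ n ih =>
        have hn : A ^ n * C = C * A ^ n := (Commute.pow_left (show Commute A C from hAC) n).eq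
        calc ⁅A ^ (n + 1), B⁆ = A ^ n * C * (A ^ n)⁻¹ * ⁅A ^ n, B⁆ := by
              simp only [hC, commutatorElement_def, pow_succ]; group
          _ = C ^ (n + 1) := by rw [hn, mul_inv_cancel_right, ih, pow_succ']
    have hC11 : C ^ 11 = 1 := by
      rw [← hpow, commutatorElement_eq_one_iff_mul_comm]
      exact (hcen (by rw [map_pow, ha]) B).symm
    have hpow' : ∀ n : ℕ, ⁅B, C ^ n⁆ = ⁅B, C⁆ ^ n := by
      intro n
      induction n with
      | zero => simp
      | succ n ih =>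
        calc ⁅B, C ^ (n + 1)⁆ = ⁅B, C⁆ * (C * ⁅B, C ^ n⁆ * C⁻¹) := by
              simp only [commutatorElement_def, pow_succ']; group
          _ = ⁅B, C⁆ ^ (n + 1) := by
            rw [ih, hcen (show σ (⁅B, C⁆ ^ n) = 1 by rw [map_pow, hζ, one_pow]) C, mul_inv_cancel_right,
              ← pow_succ']
    have h11 : ⁅B, C⁆ ^ 11 = 1 := by rw [← hpow', hC11, commutatorElement_one_right]
    have h2 : ⁅B, C⁆ = ⁅B, C⁆⁻¹ := by
      calc ⁅B, C⁆ = H * ⁅B, C⁆ * H⁻¹ := by rw [hcen hζ, mul_inv_cancel_right]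
        _ = ⁅H * B * H⁻¹, H * C * H⁻¹⁆ := by simp only [commutatorElement_def]; group
        _ = ⁅B⁻¹ * C ^ j, C⁆ := hcomm (by simp [hhb, hσC]) (by simp [hhc, hσC])
        _ = B⁻¹ * ⁅B, C⁆⁻¹ * B := by simp only [commutatorElement_def]; group
        _ = ⁅B, C⁆⁻¹ := by
          rw [mul_assoc, ← hcen (show σ ⁅B, C⁆⁻¹ = 1 by rw [map_inv, hζ, inv_one]) B, ← mul_assoc,
            inv_mul_cancel, one_mul]
    have h2' : ⁅B, C⁆ ^ 2 = 1 := by
      rw [pow_two]
      nth_rewrite 2 [h2]
      exact mul_inv_cancel _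
    rw [← commutatorElement_eq_one_iff_mul_comm]
    have h10 : ⁅B, C⁆ ^ 10 = 1 := by rw [show 10 = 2 * 5 from rfl, pow_mul, h2', one_pow]
    rwa [pow_succ, h10, one_mul] at h11
  set W := Subgroup.closure ({σ A, σ B} : Set G) with hW
  have h := Cfsg.Agent.Co2Mult.pow_index_mem_commutator hperf (W.comap σ) (hker hz)
  rw [Subgroup.index_comap_of_surjective _ hσ] at h
  have hle : ⁅W.comap σ, W.comap σ⁆ ≤ Subgroup.zpowers C := by
    have hcentral : ∀ x ∈ Subgroup.closure ({A, B} : Set Γ), x * C = C * x := by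
      intro x hx
      induction hx using Subgroup.closure_induction with
      | mem x hx =>
        rcases hx with rfl | hx
        · exact hAC
        · rw [Set.mem_singleton_iff] at hx; subst hx; exact hBC
      | one => simp
      | mul x y _ _ h1 h2 => exact (Commute.mul_left h1 h2)
      | inv x _ h1 => exact (Commute.inv_left h1)
    have h0 := Cfsg.Agent.Co2Mult.commutator_closure_le (S := ({A, B} : Set Γ))
      (N := Subgroup.zpowers C) (fun x hx q hq => by
        obtain ⟨k, rfl⟩ := hq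
        exact ⟨k, by
          rw [(Commute.zpow_right (show Commute x C from hcentral x hx) k).eq, mul_inv_cancel_right]⟩)
      (by
        have hAB : ⁅B, A⁆ ∈ Subgroup.zpowers C := by
          rw [← commutatorElement_inv]; exact inv_mem (Subgroup.mem_zpowers _)
        rintro x (rfl | hx) y (rfl | hy)
        · simp
        · rw [Set.mem_singleton_iff] at hy; subst hy; exact Subgroup.mem_zpowers _
        · rw [Set.mem_singleton_iff] at hx; subst hx; exact hAB
        · rw [Set.mem_singleton_iff] at hx hy; subst hx hy; simp)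
    have hmap : (Subgroup.closure ({A, B} : Set Γ)).map σ = W := by
      rw [MonoidHom.map_closure, Set.image_pair]
    rw [Subgroup.commutator_le]
    intro x hx y hy
    obtain ⟨x', hx', ex⟩ := Subgroup.mem_map.1 (hmap.symm ▸ Subgroup.mem_comap.1 hx :
      σ x ∈ (Subgroup.closure ({A, B} : Set Γ)).map σ)
    obtain ⟨y', hy', ey⟩ := Subgroup.mem_map.1 (hmap.symm ▸ Subgroup.mem_comap.1 hy :
      σ y ∈ (Subgroup.closure ({A, B} : Set Γ)).map σ)
    rw [hcomm ex.symm ey.symm]
    exact h0 (Subgroup.commutator_mem_commutator hx' hy')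
  obtain ⟨k, hk⟩ := hle h
  simp only at hk
  have hC11 : C ^ (11 : ℤ) = 1 := by
    have hn : ∀ n : ℕ, ⁅A ^ n, B⁆ = C ^ n := by
      intro n
      induction n with
      | zero => simp
      | succ n ih =>
        have hn : A ^ n * C = C * A ^ n := (Commute.pow_left (show Commute A C from hAC) n).eq
        calc ⁅A ^ (n + 1), B⁆ = A ^ n * C * (A ^ n)⁻¹ * ⁅A ^ n, B⁆ := by
              simp only [hC, commutatorElement_def, pow_succ]; group
          _ = C ^ (n + 1) := by rw [hn, mul_inv_cancel_right, ih, pow_succ']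
    rw [zpow_ofNat, ← hn, commutatorElement_eq_one_iff_mul_comm]
    exact (hcen (by rw [map_pow, ha]) B).symm
  have hck : c ^ k = 1 := by
    rw [← hσC, ← map_zpow, hk, map_pow, MonoidHom.mem_ker.1 hz, one_pow]
  have hord : orderOf c = 11 := by
    have : c ^ 11 = 1 := by
      have := congrArg σ hC11
      rwa [zpow_ofNat, map_pow, hσC, map_one] at this
    exact orderOf_eq_prime (hp := ⟨by norm_num⟩) this hc1
  obtain ⟨l, rfl⟩ : (11 : ℤ) ∣ k := by
    have := orderOf_dvd_iff_zpow_eq_one.2 hck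
    rwa [hord] at this
  rw [← hk, zpow_mul, hC11, one_zpow]

end Cfsg.Agent.J4Mult
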