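import Cfsg.Agent.J4Lower.Data

/-! Generated: a word whose fourth power inverts the group of order `11 ^ 3` modulo its centre. -/

set_option autoImplicit false
set_option maxRecDepth 100000

namespace Cfsg.Agent.J4Mult

open Cfsg.Spor.J4 (Gen)
open Cfsg.Agent.J4Lower

/-- The word of order eight. -/
def rootW : List (Gen × Bool) := ([
  0, 2, 3, 2, 3, 1, 3, 1, 0, 2, 0, 1, 3, 2, 3, 2, 3, 2, 3, 2, 0, 2, 0, 1, 3, 2, 0, 2, 3, 2,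
  3, 1, 0, 1, 3, 2, 0, 1, 0, 1, 3, 2, 0, 1, 3, 2, 0, 1, 3, 2, 0, 1, 3, 2, 3, 2, 0, 2, 0, 1,
  3, 2, 3, 2, 3, 2, 2, 0, 1, 3, 1, 0, 1, 0, 2, 3, 2, 3, 1, 0, 1, 0, 2, 0, 2, 0, 2, 3, 2, 3,
  2, 0, 2, 0, 1, 3, 2, 0, 2, 0, 1, 3, 1, 0, 2, 0, 1, 0, 2, 0, 1, 3, 1, 3, 2, 0, 2, 3, 1, 3,
  1, 3, 2, 3, 2, 3, 2, 3, 2, 3, 1, 3, 1, 3, 1, 3, 2, 0] : List Nat).map dec

/-- The inverting involution. -/
def invertW : List (Gen × Bool) := powW 4 rootW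

end Cfsg.Agent.J4Mult
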