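import Mathlib

/-!
Commuting elements, each moving a vector that the later ones fix, are independent.
-/

set_option autoImplicit false

namespace Cfsg.Agent.J4Mult

/-- In a list of elements each moving its vector, fixed by all later ones, a product of a sublist
selected by exponents below two is trivial only if all exponents are zero. -/
theorem exponents_eq_zero {α Ω : Type*} : ∀ (l : List (Equiv.Perm α × α × Ω)) (v : Ω → ZMod 2),
    (l.Pairwise fun p q => q.1 p.2.1 = p.2.1) → (∀ p ∈ l, p.1 p.2.1 ≠ p.2.1) →
      (l.map fun p => p.1 ^ (v p.2.2).val).prod = 1 → ∀ p ∈ l, v p.2.2 = 0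
  | [], _, _, _, _ => fun p hp => absurd hp List.not_mem_nil
  | q :: l, v, hpw, hmv, h => by
    obtain ⟨hq, hl⟩ := List.pairwise_cons.1 hpw
    have hfix : (l.map fun p => p.1 ^ (v p.2.2).val).prod ∈
        MulAction.stabilizer (Equiv.Perm α) q.2.1 := by
      refine Subgroup.list_prod_mem _ fun x hx => ?_
      obtain ⟨p, hp, rfl⟩ := List.mem_map.1 hx
      exact pow_mem (MulAction.mem_stabilizer_iff.2 (hq p hp)) _
    rw [List.map_cons, List.prod_cons] at h
    have h0 : v q.2.2 = 0 := by
      by_contra hne
      have h1 : v q.2.2 = 1 := by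
        have : ∀ a : ZMod 2, a ≠ 0 → a = 1 := by decide
        exact this _ hne
      refine hmv q List.mem_cons_self ?_
      have h' := Equiv.Perm.ext_iff.1 h q.2.1
      rw [Equiv.Perm.mul_apply, show (l.map fun p => p.1 ^ (v p.2.2).val).prod q.2.1 = q.2.1 from
        MulAction.mem_stabilizer_iff.1 hfix, h1, ZMod.val_one, pow_one] at h'
      exact h'
    rw [h0, ZMod.val_zero, pow_zero, one_mul] at h
    intro p hp
    rcases List.mem_cons.1 hp with rfl | hp
    · exact h0
    · exact exponents_eq_zero l v hl (fun r hr => hmv r (List.mem_cons_of_mem _ hr)) h p hp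

end Cfsg.Agent.J4Mult
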