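import Cfsg.Agent.J4Mult.Pairs

/-!
# Exact equivariant lifts

With `L (a, b)` the translates of one lift of `e a0`, a triangle has product `τ` and every edge
square `q`; then `τ ^ 2 = q ^ 3`, and the lifts `L (a, b) * τ⁻¹ * q` are exact.
-/

set_option autoImplicit false

namespace Cfsg.Agent.J4Mult.Pairs

open scoped commutatorElement IsMulCommutative

variable {Γ G M Ω : Type*} [Group Γ] [Group G] [Group M] [MulAction M Ω] (P : Pairs Γ G M Ω)

theorem σ_conj (m : M) (x : Γ) : P.σ (P.s m * x * (P.s m)⁻¹) = P.ι m * P.σ x * (P.ι m)⁻¹ := by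
  simp [P.σ_s]

theorem conj_base {m : M} (h1 : m • P.o = P.o) (h2 : m • P.a0 = P.a0) :
    P.s m * P.lift (P.e P.a0) * (P.s m)⁻¹ = P.lift (P.e P.a0) := by
  set H := MulAction.stabilizer M P.o ⊓ MulAction.stabilizer M P.a0 with hH
  let x := P.lift (P.e P.a0)
  have hmem : ∀ k : H, P.s k * x * (P.s k)⁻¹ * x⁻¹ ∈ P.σ.ker := by
    intro k
    rw [MonoidHom.mem_ker, map_mul, map_inv, σ_conj, σ_lift, P.e_conj,
      MulAction.mem_stabilizer_iff.1 k.2.1, MulAction.mem_stabilizer_iff.1 k.2.2, P.e_o, one_mul,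
      mul_inv_cancel]
  let φ : H →* Subgroup.center Γ :=
    { toFun := fun k => ⟨_, P.central (hmem k)⟩
      map_one' := Subtype.ext (by simp)
      map_mul' := fun k l => Subtype.ext (by
        have hc := P.σ_ker_mul (hmem l) (P.s k)
        have hc' := P.σ_ker_mul (hmem l) (P.s k * x * (P.s k)⁻¹ * x⁻¹)
        calc P.s ((k * l : H) : M) * x * (P.s ((k * l : H) : M))⁻¹ * x⁻¹
            = P.s k * (P.s l * x * (P.s l)⁻¹ * x⁻¹) * (x * (P.s k)⁻¹ * x⁻¹) := by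
              rw [Subgroup.coe_mul, map_mul, mul_inv_rev]; group
          _ = (P.s l * x * (P.s l)⁻¹ * x⁻¹) * P.s k * (x * (P.s k)⁻¹ * x⁻¹) := by rw [hc]
          _ = P.s l * x * (P.s l)⁻¹ * x⁻¹ * (P.s k * x * (P.s k)⁻¹ * x⁻¹) := by group
          _ = P.s k * x * (P.s k)⁻¹ * x⁻¹ * (P.s l * x * (P.s l)⁻¹ * x⁻¹) := hc'.symm) }
  have hm : (⟨m, h1, h2⟩ : H) ∈ φ.ker :=
    Abelianization.commutator_subset_ker φ (P.perfect2 ▸ Subgroup.mem_top _)
  have := congrArg Subtype.val (MonoidHom.mem_ker.1 hm)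
  exact mul_inv_eq_one.1 this

open scoped Classical in
/-- The translated lifts. -/
noncomputable def L (a b : Ω) : Γ :=
  if h : a = b then 1 else
    P.s (P.trans2 P.a0_ne.symm h).choose * P.lift (P.e P.a0) *
      (P.s (P.trans2 P.a0_ne.symm h).choose)⁻¹

theorem L_of {m : M} {a b : Ω} (ha : m • P.o = a) (hb : m • P.a0 = b) (h : a ≠ b) :
    P.L a b = P.s m * P.lift (P.e P.a0) * (P.s m)⁻¹ := by
  rw [L, dif_neg h]
  obtain ⟨hk1, hk2⟩ := (P.trans2 P.a0_ne.symm h).choose_spec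
  generalize (P.trans2 P.a0_ne.symm h).choose = k at hk1 hk2 ⊢
  have h1 : (k⁻¹ * m) • P.o = P.o := by rw [mul_smul, ha, ← hk1, inv_smul_smul]
  have h2 : (k⁻¹ * m) • P.a0 = P.a0 := by rw [mul_smul, hb, ← hk2, inv_smul_smul]
  have := P.conj_base h1 h2
  calc P.s k * P.lift (P.e P.a0) * (P.s k)⁻¹
      = P.s k * (P.s (k⁻¹ * m) * P.lift (P.e P.a0) * (P.s (k⁻¹ * m))⁻¹) * (P.s k)⁻¹ := by rw [this]
    _ = P.s m * P.lift (P.e P.a0) * (P.s m)⁻¹ := by rw [map_mul, map_inv]; group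

theorem L_self (a : Ω) : P.L a a = 1 := by rw [L, dif_pos rfl]

theorem σ_L {a b : Ω} (h : a ≠ b) : P.σ (P.L a b) = P.e a * P.e b := by
  obtain ⟨m, ha, hb⟩ := P.trans2 P.a0_ne.symm h
  rw [P.L_of ha hb h, σ_conj, σ_lift, P.e_conj, ha, hb]

theorem L_mem {a b : Ω} (h : a ≠ b) : P.L a b ∈ P.E := P.mem_E_of (P.σ_L h)

theorem L_conj (m : M) (a b : Ω) : P.s m * P.L a b * (P.s m)⁻¹ = P.L (m • a) (m • b) := by
  by_cases h : a = b
  · subst h
    simp [L_self]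
  obtain ⟨k, ha, hb⟩ := P.trans2 P.a0_ne.symm h
  rw [P.L_of ha hb h, P.L_of (m := m * k) (a := m • a) (b := m • b) (by rw [mul_smul, ha])
    (by rw [mul_smul, hb]) (fun e => h (smul_left_cancel m e)), map_mul]
  group

/-- The square of the base edge. -/
noncomputable def q : Γ := P.L P.o P.a0 * P.L P.o P.a0

/-- The product of the base triangle. -/
noncomputable def τ : Γ := P.L P.o P.a0 * P.L P.a0 P.b0 * P.L P.b0 P.o

theorem central_q : P.q ∈ P.σ.ker := by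
  rw [MonoidHom.mem_ker, q, map_mul, P.σ_L P.a0_ne.symm, P.e_o, one_mul, P.e_sq]

theorem central_τ : P.τ ∈ P.σ.ker := by
  rw [MonoidHom.mem_ker, τ, map_mul, map_mul, P.σ_L P.a0_ne.symm, P.σ_L P.a0_b0, P.σ_L P.b0_ne,
    P.e_o, one_mul, mul_one, ← mul_assoc, P.e_sq, one_mul, P.e_sq]

theorem L_sq {a b : Ω} (h : a ≠ b) : P.L a b * P.L a b = P.q := by
  obtain ⟨m, ha, hb⟩ := P.trans2 P.a0_ne.symm h
  have h1 := P.L_conj m P.o P.a0
  rw [ha, hb] at h1
  rw [← h1]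
  calc P.s m * P.L P.o P.a0 * (P.s m)⁻¹ * (P.s m * P.L P.o P.a0 * (P.s m)⁻¹)
      = P.s m * P.q * (P.s m)⁻¹ := by rw [q]; group
    _ = P.q := by rw [P.σ_ker_mul P.central_q, mul_inv_cancel_right]

theorem L_tri {a b c : Ω} (hab : a ≠ b) (hac : a ≠ c) (hbc : b ≠ c) :
    P.L a b * P.L b c * P.L c a = P.τ := by
  obtain ⟨m, ha, hb, hc⟩ := P.trans3 P.o P.a0 P.b0 a b c P.a0_ne.symm P.b0_ne.symm P.a0_b0 hab hac hbc
  rw [← ha, ← hb, ← hc, ← P.L_conj, ← P.L_conj, ← P.L_conj]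
  calc P.s m * P.L P.o P.a0 * (P.s m)⁻¹ * (P.s m * P.L P.a0 P.b0 * (P.s m)⁻¹) *
        (P.s m * P.L P.b0 P.o * (P.s m)⁻¹)
      = P.s m * P.τ * (P.s m)⁻¹ := by rw [τ]; group
    _ = P.τ := by rw [P.σ_ker_mul P.central_τ, mul_inv_cancel_right]

/-- An edge in the commutative group. -/
noncomputable def edge (a b : Ω) : P.E :=
  ⟨P.L a b, by
    by_cases h : a = b
    · subst h; rw [L_self]; exact one_mem _
    · exact P.L_mem h⟩

theorem ker_le_E : P.σ.ker ≤ P.E := fun z hz =>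
  Subgroup.subset_closure ⟨P.o, by rw [P.e_o, MonoidHom.mem_ker.1 hz]⟩

/-- The square in the commutative group. -/
noncomputable def qE : P.E := ⟨P.q, P.ker_le_E P.central_q⟩

/-- The triangle in the commutative group. -/
noncomputable def τE : P.E := ⟨P.τ, P.ker_le_E P.central_τ⟩

theorem edge_sq {a b : Ω} (h : a ≠ b) : P.edge a b * P.edge a b = P.qE := Subtype.ext (P.L_sq h)

theorem edge_tri {a b c : Ω} (hab : a ≠ b) (hac : a ≠ c) (hbc : b ≠ c) :
    P.edge a b * P.edge b c * P.edge c a = P.τE := Subtype.ext (P.L_tri hab hac hbc)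

theorem edge_symm {a b : Ω} (h : a ≠ b) : P.edge b a = P.edge a b := by
  obtain ⟨k, hk⟩ : ∃ k : M, k • P.o = a ∧ k • P.a0 = b := P.trans2 P.a0_ne.symm h
  let c := k • P.b0
  have hca : a ≠ c := fun e => P.b0_ne (smul_left_cancel k (hk.1.trans e)).symm
  have hcb : b ≠ c := fun e => P.a0_b0 (smul_left_cancel k (hk.2.trans e))
  -- the quotient of the two orientations is constant
  have hr : ∀ u v : Ω, u ≠ v → P.edge v u * (P.edge u v)⁻¹ =
      P.edge P.a0 P.o * (P.edge P.o P.a0)⁻¹ := by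
    intro u v huv
    obtain ⟨m, hu, hv⟩ := P.trans2 P.a0_ne.symm huv
    apply Subtype.ext
    rw [← hu, ← hv]
    show P.L (m • P.a0) (m • P.o) * (P.L (m • P.o) (m • P.a0))⁻¹ =
      P.L P.a0 P.o * (P.L P.o P.a0)⁻¹
    rw [← P.L_conj, ← P.L_conj]
    have hz : P.L P.a0 P.o * (P.L P.o P.a0)⁻¹ ∈ P.σ.ker := by
      rw [MonoidHom.mem_ker, map_mul, map_inv, P.σ_L P.a0_ne, P.σ_L P.a0_ne.symm, P.e_comm,
        mul_inv_cancel]
    calc P.s m * P.L P.a0 P.o * (P.s m)⁻¹ * (P.s m * P.L P.o P.a0 * (P.s m)⁻¹)⁻¹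
        = P.s m * (P.L P.a0 P.o * (P.L P.o P.a0)⁻¹) * (P.s m)⁻¹ := by group
      _ = _ := by rw [P.σ_ker_mul hz, mul_inv_cancel_right]
  set r := P.edge P.a0 P.o * (P.edge P.o P.a0)⁻¹ with hrdef
  have e1 : P.edge b a = P.edge a b * r := by rw [← hr a b h, mul_comm (P.edge b a), mul_inv_cancel_left]
  have e2 : P.edge c b = P.edge b c * r := by rw [← hr b c hcb, mul_comm (P.edge c b), mul_inv_cancel_left]
  have e3 : P.edge a c = P.edge c a * r := by rw [← hr c a hca.symm, mul_comm (P.edge a c), mul_inv_cancel_left]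
  have e4 : P.edge a b = P.edge b a * r := by rw [← hr b a h.symm, mul_comm (P.edge a b), mul_inv_cancel_left]
  have h2 : r * r = 1 := by
    rw [e1, mul_assoc] at e4
    exact left_eq_mul.1 e4
  have h3 : r * r * r = 1 := by
    have t1 := P.edge_tri h hca hcb
    have t2 := P.edge_tri hca h hcb.symm
    rw [e1, e2, e3] at t2
    have : P.edge a b * P.edge b c * P.edge c a * (r * r * r) = P.τE := by
      rw [← t2]
      ac_rfl
    rw [t1] at this
    exact mul_eq_left.1 this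
  rw [h2, one_mul] at h3
  rw [e1, h3, mul_one]

open scoped Classical in
/-- The exact lift of the pair formed by `a` and `b`. -/
noncomputable def F (a b : Ω) : P.E :=
  if a = b then 1 else P.edge a b * (P.τE⁻¹ * P.qE)

theorem F_self (a : Ω) : P.F a a = 1 := by rw [F, if_pos rfl]

theorem τ_sq : P.τE * P.τE = P.qE * P.qE * P.qE := by
  have h : P.edge P.o P.a0 * P.edge P.o P.a0 * (P.edge P.a0 P.b0 * P.edge P.a0 P.b0) *
      (P.edge P.b0 P.o * P.edge P.b0 P.o) = P.τE * P.τE := by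
    rw [← P.edge_tri P.a0_ne.symm P.b0_ne.symm P.a0_b0]
    ac_rfl
  rw [← h, P.edge_sq P.a0_ne.symm, P.edge_sq P.a0_b0, P.edge_sq P.b0_ne]

theorem F_sq (a b : Ω) : P.F a b * P.F a b = 1 := by
  by_cases h : a = b
  · simp [F, h]
  rw [F, if_neg h]
  calc P.edge a b * (P.τE⁻¹ * P.qE) * (P.edge a b * (P.τE⁻¹ * P.qE))
      = (P.τE * P.τE)⁻¹ * (P.edge a b * P.edge a b * (P.qE * P.qE)) := by
        rw [mul_inv]
        ac_rfl
    _ = (P.qE * P.qE * P.qE)⁻¹ * (P.qE * P.qE * P.qE) := by rw [P.τ_sq, P.edge_sq h, mul_assoc P.qE P.qE P.qE]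
    _ = 1 := inv_mul_cancel _

theorem F_symm (a b : Ω) : P.F b a = P.F a b := by
  by_cases h : a = b
  · rw [h]
  rw [F, F, if_neg h, if_neg (Ne.symm h), P.edge_symm h]

theorem F_add (a b c : Ω) : P.F a b * P.F b c = P.F a c := by
  by_cases hab : a = b
  · rw [hab, F_self, one_mul]
  by_cases hbc : b = c
  · rw [hbc, F_self, mul_one]
  by_cases hac : a = c
  · rw [← hac, P.F_symm a b, F_sq, F_self]
  have key : P.F a b * P.F b c * P.F c a = 1 := by
    rw [F, F, F, if_neg hab, if_neg hbc, if_neg (Ne.symm hac)]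
    calc P.edge a b * (P.τE⁻¹ * P.qE) * (P.edge b c * (P.τE⁻¹ * P.qE)) *
          (P.edge c a * (P.τE⁻¹ * P.qE))
        = (P.edge a b * P.edge b c * P.edge c a) * P.τE⁻¹ * (P.τE * P.τE)⁻¹ *
            (P.qE * P.qE * P.qE) := by
          rw [mul_inv]
          ac_rfl
      _ = 1 := by rw [P.edge_tri hab hac hbc, mul_inv_cancel, one_mul, P.τ_sq, inv_mul_cancel]
  rw [P.F_symm a c] at key
  calc P.F a b * P.F b c = P.F a b * P.F b c * (P.F a c * P.F a c) := by rw [F_sq, mul_one]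
    _ = P.F a c := by rw [← mul_assoc, key, one_mul]

theorem F_conj (m : M) (a b : Ω) :
    P.s m * (P.F a b : Γ) * (P.s m)⁻¹ = (P.F (m • a) (m • b) : Γ) := by
  by_cases h : a = b
  · subst h
    simp [F_self]
  rw [F, F, if_neg h, if_neg fun e => h (smul_left_cancel m e), Subgroup.coe_mul, Subgroup.coe_mul]
  have hz : ((P.τE⁻¹ * P.qE : P.E) : Γ) ∈ P.σ.ker := mul_mem (inv_mem P.central_τ) P.central_q
  show P.s m * (P.L a b * ((P.τE⁻¹ * P.qE : P.E) : Γ)) * (P.s m)⁻¹ =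
    P.L (m • a) (m • b) * ((P.τE⁻¹ * P.qE : P.E) : Γ)
  rw [← P.L_conj]
  calc P.s m * (P.L a b * ((P.τE⁻¹ * P.qE : P.E) : Γ)) * (P.s m)⁻¹
      = P.s m * P.L a b * (((P.τE⁻¹ * P.qE : P.E) : Γ) * (P.s m)⁻¹) := by group
    _ = P.s m * P.L a b * ((P.s m)⁻¹ * ((P.τE⁻¹ * P.qE : P.E) : Γ)) := by rw [P.σ_ker_mul hz (P.s m)⁻¹]
    _ = P.s m * P.L a b * (P.s m)⁻¹ * ((P.τE⁻¹ * P.qE : P.E) : Γ) := by group

theorem σ_F (a b : Ω) : P.σ (P.F a b : Γ) = P.e a * P.e b := by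
  by_cases h : a = b
  · subst h
    rw [F_self, Subgroup.coe_one, map_one, P.e_sq]
  rw [F, if_neg h, Subgroup.coe_mul, map_mul]
  show P.σ (P.L a b) * P.σ ((P.τE⁻¹ * P.qE : P.E) : Γ) = _
  rw [MonoidHom.mem_ker.1 (show ((P.τE⁻¹ * P.qE : P.E) : Γ) ∈ P.σ.ker from
    mul_mem (inv_mem P.central_τ) P.central_q), mul_one, P.σ_L h]

end Cfsg.Agent.J4Mult.Pairs
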