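import Cfsg.Agent.J4Mult.Split
import Cfsg.Agent.J4Mult.Eleven
import Cfsg.Agent.J4Mult.Indep
import Cfsg.Agent.J4Mult.Concrete
import Cfsg.Agent.J4Mult.CheckInvA
import Cfsg.Agent.J4Mult.CheckInvB
import Cfsg.Agent.J4Mult.CheckInvZ
import Cfsg.Agent.J4Lower.Main
import Cfsg.Agent.ProjExt.Stem
import Cfsg.Agent.SporMult.M24
import Cfsg.Prelude.Def_Sporadic

/-!
# The multiplier of the presented J4 is trivial

It is assumed that the group is simple of the order of Janko's fourth group.  The kernel of a stem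
extension is killed by the index of each of six subgroups: `2 ^ 11 : M24`, a group of order `11 ^ 3`,
and cyclic groups of orders 29, 31, 37, 43; these indices have no common divisor.
-/

set_option autoImplicit false
set_option maxRecDepth 100000

namespace Cfsg.Agent.J4Mult

open Cfsg Cfsg.Agent.J4Rep Cfsg.Agent.Compute Cfsg.Agent.CosetCert
open scoped commutatorElement

theorem rho_injective (h : IsJ4 Spor.J4) : Function.Injective rho := by
  rw [← MonoidHom.ker_eq_bot_iff]
  have : IsSimpleGroup Spor.J4 := h.1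
  rcases rho.normal_ker.eq_bot_or_eq_top with hk | hk
  · exact hk
  · exact absurd ((MonoidHom.mem_ker (f := rho)).1 (hk ▸ Subgroup.mem_top _))
      (by rw [rho_of]; exact genPerm_x_ne_one)

theorem perfect_j4 (h : IsJ4 Spor.J4) : commutator Spor.J4 = ⊤ := by
  have : IsSimpleGroup Spor.J4 := h.1
  rcases (inferInstance : (commutator Spor.J4).Normal).eq_bot_or_eq_top with hk | hk
  · exfalso
    obtain ⟨ι, hι, -⟩ := exists_iota
    have hab : ∀ a b : Spor.J4, a * b = b * a := fun a b =>
      commutatorElement_eq_one_iff_mul_comm.1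
        (Subgroup.mem_bot.1 (hk ▸ Subgroup.commutator_mem_commutator (Subgroup.mem_top a) (Subgroup.mem_top b)))
    have hM : ∀ a b : M24, a * b = b * a := fun a b => hι (by rw [map_mul, map_mul, hab])
    have : IsSimpleGroup M24 := isSimpleGroup_m24
    have : IsMulCommutative M24 := ⟨⟨hM⟩⟩
    have hp : (Nat.card M24).Prime := by
      letI : CommGroup M24 := { (inferInstance : Group M24) with mul_comm := hM }
      have : Finite M24 := Nat.finite_of_card_ne_zero (by rw [card_m24]; norm_num)
      exact IsSimpleGroup.prime_card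
    rw [card_m24] at hp
    norm_num at hp
  · exact hk

theorem trans3 (a b c a' b' c' : GolayPt) (hab : a ≠ b) (hac : a ≠ c) (hbc : b ≠ c)
    (hab' : a' ≠ b') (hac' : a' ≠ c') (hbc' : b' ≠ c') :
    ∃ m : M24, m • a = a' ∧ m • b = b' ∧ m • c = c' := by
  have key : ∀ u v w : GolayPt, u ≠ v → u ≠ w → v ≠ w → ∃ m : M24,
      m • rep24.pt 23 = u ∧ m • rep24.pt 0 = v ∧ m • rep24.pt 1 = w := by
    intro u v w h1 h2 h3
    obtain ⟨d, e, hd, he, hde⟩ : ∃ d e : GolayPt, d ∉ [u, v, w] ∧ e ∉ [u, v, w] ∧ d ≠ e := by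
      classical
      have : Fintype GolayPt := Fintype.ofEquiv _ e24
      have hcard : Fintype.card GolayPt = 24 := by
        rw [← Fintype.card_congr e24, Fintype.card_fin]
      obtain ⟨d, hd, e, he, hde⟩ := Finset.one_lt_card.1 (show 1 < (Finset.univ \ [u, v, w].toFinset).card by
        have hle := [u, v, w].toFinset_card_le
        have := Finset.le_card_sdiff [u, v, w].toFinset (Finset.univ : Finset GolayPt)
        rw [Finset.card_univ, hcard] at this
        simp only [List.length_cons, List.length_nil] at hle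
        omega)
      rw [Finset.mem_sdiff, List.mem_toFinset] at hd he
      exact ⟨d, e, hd.2, he.2, hde⟩
    simp only [List.mem_cons, List.not_mem_nil, or_false, not_or] at hd he
    obtain ⟨g, hg, hmap⟩ := m24_tupleTrans [u, v, w, d, e]
      (by simp [h1, h2, h3, Ne.symm hd.1, Ne.symm hd.2.1, Ne.symm hd.2.2, Ne.symm he.1,
        Ne.symm he.2.1, Ne.symm he.2.2, hde])
      (fun p _ => Set.mem_univ p) rfl
    simp only [List.map_cons, List.map_nil, List.cons.injEq] at hmap
    exact ⟨⟨g, hg⟩, hmap.1, hmap.2.1, hmap.2.2.1⟩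
  obtain ⟨m, h1, h2, h3⟩ := key a b c hab hac hbc
  obtain ⟨n, k1, k2, k3⟩ := key a' b' c' hab' hac' hbc'
  refine ⟨n * m⁻¹, ?_, ?_, ?_⟩
  · rw [mul_smul, ← h1, inv_smul_smul, k1]
  · rw [mul_smul, ← h2, inv_smul_smul, k2]
  · rw [mul_smul, ← h3, inv_smul_smul, k3]

theorem perfect_pair :
    commutator ↥(MulAction.stabilizer M24 (none : GolayPt) ⊓
      MulAction.stabilizer M24 (some 0 : GolayPt)) = ⊤ := by
  have hsub : MulAction.stabilizer M24 (none : GolayPt) ⊓ MulAction.stabilizer M24 (some 0 : GolayPt) =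
      Spor.M22.subgroupOf M24 := by
    ext ⟨g, hg⟩
    simp only [Subgroup.mem_inf, MulAction.mem_stabilizer_iff, Subgroup.mem_subgroupOf, Spor.M22,
      Spor.M23]
    exact ⟨fun h => ⟨⟨hg, h.1⟩, h.2⟩, fun h => ⟨h.1.2, h.2⟩⟩
  rw [hsub]
  have hle : Spor.M22 ≤ M24 := inf_le_left.trans inf_le_left
  let e := (Subgroup.subgroupOfEquivOfLe hle).symm
  have : IsSimpleGroup Spor.M22 := isSimpleGroup_m22
  have hperf : commutator Spor.M22 = ⊤ := by
    rcases (inferInstance : (commutator Spor.M22).Normal).eq_bot_or_eq_top with hk | hk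
    · exfalso
      have hM : ∀ a b : Spor.M22, a * b = b * a := fun a b =>
        commutatorElement_eq_one_iff_mul_comm.1
          (Subgroup.mem_bot.1 (hk ▸ Subgroup.commutator_mem_commutator (Subgroup.mem_top a) (Subgroup.mem_top b)))
      letI : CommGroup Spor.M22 := { (inferInstance : Group Spor.M22) with mul_comm := hM }
      have : Finite Spor.M22 := Finite.of_injective _ Subtype.val_injective
      have hp : (Nat.card Spor.M22).Prime := IsSimpleGroup.prime_card
      rw [card_m22] at hp
      norm_num at hp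
    · exact hk
  rw [commutator_def, ← Subgroup.map_top_of_surjective e.toMonoidHom e.surjective,
    ← Subgroup.map_commutator, ← commutator_def, hperf]

/-- The vector of a mask. -/
def maskVec (k : ℕ) : GolayPt → ZMod 2 := fun p => if k.testBit (ptIdx p) then 1 else 0

theorem maskVec_xor (a b : ℕ) : maskVec (a ^^^ b) = maskVec a + maskVec b := by
  funext p
  simp only [maskVec, Nat.testBit_xor, Pi.add_apply]
  cases a.testBit (ptIdx p) <;> cases b.testBit (ptIdx p) <;> decide

theorem tv_maskVec {c : ℕ} (hc : rep24.Ok c) (hm : rep24.den c ∈ M24) (k : ℕ) :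
    Pairs.tv (⟨rep24.den c, hm⟩ : M24) (maskVec k) = maskVec (imgMask c k) := by
  funext p
  show (if k.testBit (ptIdx ((⟨rep24.den c, hm⟩ : M24)⁻¹ • p)) then (1 : ZMod 2) else 0) =
    if (imgMask c k).testBit (ptIdx p) then 1 else 0
  generalize hq : (⟨rep24.den c, hm⟩ : M24)⁻¹ • p = q
  have hp : p = rep24.den c q := by
    have : (⟨rep24.den c, hm⟩ : M24) • q = p := by rw [← hq, smul_inv_smul]
    exact this.symm
  rw [hp, testBit_imgMask hc]

/-- All the codes used. -/
def usedCodes : List ℕ :=
  [threeCodes.1, threeCodes.2.1, threeCodes.2.2] ++ (List.range 24).flatMap coverCode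

theorem usedCodes_ok : usedCodes.all inM24B = true := by decide +kernel

theorem three_ok : Nat.beq (Nat.xor (imgMask threeCodes.1 octMask) (imgMask threeCodes.2.1 octMask))
    (imgMask threeCodes.2.2 octMask) = true := by decide +kernel

/-- The translates that clear a point. -/
noncomputable def coverB (a : ℕ) : Bool :=
  !(nbMask.testBit a) ||
    ((coverCode a).length == 1 &&
      Nat.beq (Nat.land (Nat.xor (imgMask ((coverCode a).getD 0 0) octMask) (Nat.pow 2 a)) nbMask) 0)

theorem cover_ok : allBelow 24 coverB = true := by decide +kernel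

theorem tri_nb : ∀ a < 23, nbMask.testBit a = false → a ∈ triB.map Prod.fst := by decide +kernel

theorem nb_small : ∀ a < 24, nbMask.testBit a = true → a < 23 := by decide +kernel

theorem tri_small : ∀ q ∈ triB, q.1 < 23 ∧ q.2 < 2 ^ 112 := by decide +kernel

theorem tri_nodup : (triB.map Prod.fst).Nodup := by decide +kernel

/-- A row of the triangle. -/
noncomputable def triRow : List (ℕ × ℕ) → Bool :=
  List.rec (motive := fun _ => Bool) true fun q t ih =>
    !(Nat.beq (app (fCols q.1) q.2) q.2) && t.all (fun r => Nat.beq (app (fCols r.1) q.2) q.2) && ih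

theorem tri_ok : triRow triB = true := by decide +kernel

theorem oct_ok : octMask = (sevenIdx.map fun i => 2 ^ i).foldr (· ^^^ ·) (2 ^ 23) ∧
    sevenIdx.length = 7 ∧ (∀ i ∈ sevenIdx, i < 23 ∧ i ≠ outIdx) ∧ outIdx < 23 := by decide +kernel

theorem seven_check : idB matE 112 (sevenIdx.map Sum.inr) = true := by decide +kernel

theorem oct_even : Even (∑ p : Option (ZMod 23), (maskVec octMask p).val) := by decide +kernel

variable {Γ : Type} [Group Γ] [Finite Γ] (σ : Γ →* Spor.J4) (hσ : IsStemExtension σ)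

theorem sub_index_dvd (h : IsJ4 Spor.J4) {H : Subgroup Spor.J4} {n : ℕ} (hn : n ∣ Nat.card H) :
    n * H.index ∣ 86775571046077562880 := by
  rw [← h.2, ← H.card_mul_index]
  exact mul_dvd_mul_right hn _

include hσ in
theorem exists_H (h : IsJ4 Spor.J4) : ∃ H : Subgroup Spor.J4,
    2 ^ 11 * 244823040 ∣ Nat.card H ∧ ∀ z ∈ σ.ker, z ^ H.index = 1 := by
  classical
  have hinj := rho_injective h
  obtain ⟨ι, hι, hιgen⟩ := exists_iota
  obtain ⟨hsurj, hker, -⟩ := id hσ
  have hperf := Co2Mult.perfect_of_stem σ hσ (perfect_j4 h)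
  -- the section over the group of the code
  let e : M24 ≃* ι.range := MonoidHom.ofInjective hι
  have hperfM : commutator M24 = ⊤ := by
    have : IsSimpleGroup M24 := isSimpleGroup_m24
    rcases (inferInstance : (commutator M24).Normal).eq_bot_or_eq_top with hk | hk
    · exfalso
      have hM : ∀ a b : M24, a * b = b * a := fun a b =>
        commutatorElement_eq_one_iff_mul_comm.1
          (Subgroup.mem_bot.1 (hk ▸ Subgroup.commutator_mem_commutator (Subgroup.mem_top a) (Subgroup.mem_top b)))
      letI : CommGroup M24 := { (inferInstance : Group M24) with mul_comm := hM }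
      have : Finite M24 := Nat.finite_of_card_ne_zero (by rw [card_m24]; norm_num)
      have hp : (Nat.card M24).Prime := IsSimpleGroup.prime_card
      rw [card_m24] at hp
      norm_num at hp
    · exact hk
  have hperfR : commutator ι.range = ⊤ := by
    rw [commutator_def, ← Subgroup.map_top_of_surjective e.toMonoidHom e.surjective,
      ← Subgroup.map_commutator, ← commutator_def, hperfM]
  obtain ⟨ρ, hρ⟩ := StemCert.exists_retraction hperfR
    (SporMult.M24.multiplier_of_equiv e SporMult.M24.multiplier) σ hσ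
  have hex : ∀ m : M24, ∃ p : (ι.range).comap σ, σ p = ι m := fun m => by
    obtain ⟨x, hx⟩ := hsurj (ι m)
    exact ⟨⟨x, by rw [Subgroup.mem_comap, hx]; exact ⟨m, rfl⟩⟩, hx⟩
  choose pre hpre using hex
  have hindep : ∀ (m : M24) (q : (ι.range).comap σ), σ q = ι m →
      (q : Γ) * (ρ q : Γ)⁻¹ = (pre m : Γ) * (ρ (pre m) : Γ)⁻¹ := by
    intro m q hq
    have hz : ((pre m)⁻¹ * q : (ι.range).comap σ).1 ∈ σ.ker := by
      rw [MonoidHom.mem_ker, Subgroup.coe_mul, Subgroup.coe_inv, map_mul, map_inv, hpre, hq, inv_mul_cancel]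
    have hρz : (ρ ((pre m)⁻¹ * q) : Γ) = (pre m : Γ)⁻¹ * (q : Γ) :=
      congrArg Subtype.val (hρ _ hz ((pre m)⁻¹ * q : (ι.range).comap σ).2)
    rw [map_mul, map_inv, Subgroup.coe_mul, Subgroup.coe_inv] at hρz
    have hc : ∀ x : Γ, x * (ρ (pre m) : Γ) = (ρ (pre m) : Γ) * x :=
      fun x => Subgroup.mem_center_iff.1 (hker (ρ (pre m)).2) x
    calc (q : Γ) * (ρ q : Γ)⁻¹ = (pre m : Γ) * ((pre m : Γ)⁻¹ * q) * (ρ q : Γ)⁻¹ := by group
      _ = (pre m : Γ) * ((ρ (pre m) : Γ)⁻¹ * (ρ q : Γ)) * (ρ q : Γ)⁻¹ := by rw [hρz]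
      _ = (pre m : Γ) * (ρ (pre m) : Γ)⁻¹ := by group
  let s : M24 →* Γ := MonoidHom.mk' (fun m => (pre m : Γ) * (ρ (pre m) : Γ)⁻¹) fun m k => by
    rw [← hindep (m * k) (pre m * pre k) (by rw [Subgroup.coe_mul, map_mul, hpre, hpre, map_mul]),
      map_mul, Subgroup.coe_mul, Subgroup.coe_mul, mul_inv_rev]
    have hc : ∀ x : Γ, x * (ρ (pre m) : Γ)⁻¹ = (ρ (pre m) : Γ)⁻¹ * x :=
      fun x => Subgroup.mem_center_iff.1 (inv_mem (hker (ρ (pre m)).2)) x
    calc (pre m : Γ) * pre k * ((ρ (pre k) : Γ)⁻¹ * (ρ (pre m) : Γ)⁻¹)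
        = (pre m : Γ) * ((pre k * (ρ (pre k) : Γ)⁻¹) * (ρ (pre m) : Γ)⁻¹) := by group
      _ = (pre m : Γ) * ((ρ (pre m) : Γ)⁻¹ * (pre k * (ρ (pre k) : Γ)⁻¹)) := by rw [hc]
      _ = _ := by group
  have hσs : ∀ m, σ (s m) = ι m := fun m => by
    show σ ((pre m : Γ) * (ρ (pre m) : Γ)⁻¹) = ι m
    rw [map_mul, map_inv, MonoidHom.mem_ker.1 (ρ (pre m)).2, inv_one, mul_one, hpre]
  obtain ⟨hoct1, hoct7, hoct2, hout⟩ := oct_ok
  let P : Pairs Γ Spor.J4 M24 GolayPt :=
    { σ := σ
      surj := hsurj
      central := hker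
      ι := ι
      s := s
      σ_s := hσs
      o := none
      e := pairEl
      e_o := fEl_last
      e_sq := pairEl_sq hinj
      e_comm := pairEl_comm hinj
      e_conj := pairs_conj hinj ι hιgen
      trans3 := trans3
      a0 := some 0
      b0 := some 1
      a0_ne := Option.some_ne_none _
      b0_ne := Option.some_ne_none _
      a0_b0 := by decide
      perfect2 := perfect_pair
      seven := sevenIdx.map rep24.pt
      seven_len := by rw [List.length_map, hoct7]
      out := rep24.pt outIdx
      out_ne := fun hc => by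
        have := congrArg ptIdx hc
        rw [ptIdx_rep24 (by omega)] at this
        simp only [ptIdx] at this
        omega
      seven_ok := by
        intro p hp
        obtain ⟨i, hi, rfl⟩ := List.mem_map.1 hp
        obtain ⟨hi23, hio⟩ := hoct2 i hi
        refine ⟨fun hc => ?_, fun hc => ?_⟩ <;> have := congrArg ptIdx hc <;>
          rw [ptIdx_rep24 (by omega)] at this
        · simp only [ptIdx] at this; omega
        · rw [ptIdx_rep24 (by omega)] at this; exact hio this
      seven_prod := by
        have := prod_elE hinj (w := sevenIdx.map Sum.inr) (fun n hn => by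
          obtain ⟨i, hi, he⟩ := List.mem_map.1 hn
          have := (hoct2 i hi).1
          have := Sum.inr.inj he
          omega) seven_check
        rw [List.map_map] at this
        rw [List.map_map, ← this]
        refine congrArg List.prod (List.map_congr_left fun i hi => ?_)
        show pairEl (rep24.pt i) = fEl i
        rw [pairEl, ptIdx_rep24 (by have := (hoct2 i hi).1; omega)] }
  let oct : GolayPt → ZMod 2 := maskVec octMask
  let B : GolayPt → Prop := fun p => ptIdx p ∈ triB.map Prod.fst
  have helem : ∀ c ∈ usedCodes, rep24.Ok c ∧ rep24.den c ∈ M24 := fun c hc =>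
    mem_M24_of_check (List.all_eq_true.1 usedCodes_ok c hc)
  have hσsingle : ∀ p, σ (P.Ψ (Pi.single p 1) : Γ) = pairEl p := fun p => by
    rw [P.Ψ_single]
    show P.σ _ = _
    rw [P.σ_F, P.e_o, one_mul]
  have hvec : ∀ (l : List ℕ) (k : ℕ), (∀ i ∈ l, i < 24) →
      maskVec ((l.map fun i => 2 ^ i).foldr (· ^^^ ·) k) =
        (l.map fun i => Pi.single (rep24.pt i) (1 : ZMod 2)).sum + maskVec k := by
    intro l k
    induction l with
    | nil => intro _; simp
    | cons i l ih =>
      intro hl
      rw [List.map_cons, List.foldr_cons, maskVec_xor, ih fun j hj => hl j (List.mem_cons_of_mem _ hj),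
        List.map_cons, List.sum_cons, add_assoc]
      congr 1
      funext p
      have hi := hl i List.mem_cons_self
      simp only [maskVec, Nat.testBit_two_pow, decide_eq_true_iff]
      by_cases hp : p = rep24.pt i
      · rw [hp, Pi.single_eq_same, if_pos (ptIdx_rep24 hi).symm]
      · rw [Pi.single_eq_of_ne hp, if_neg fun e => hp (by rw [e, rep24_pt_ptIdx])]
  have S : P.Span oct B := by
    refine ⟨oct_even, ?_, ?_, ?_, ?_⟩
    · show P.σ (P.Ψ (maskVec octMask) : Γ) = 1
      rw [hoct1, hvec _ _ (fun i hi => by have := (hoct2 i hi).1; omega), P.Ψ_add, P.Ψ_sum,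
        Subgroup.coe_mul, map_mul, Subgroup.val_list_prod, map_list_prod, List.map_map, List.map_map]
      have hlast : maskVec (2 ^ 23) = Pi.single (none : GolayPt) 1 := by
        funext p
        rcases p with _ | x
        · decide +kernel
        · have hx : x.val < 23 := x.val_lt
          rw [Pi.single_eq_of_ne (Option.some_ne_none x)]
          simp only [maskVec, Nat.testBit_two_pow, decide_eq_true_iff]
          exact if_neg (by simp only [ptIdx]; omega)
      rw [hlast, show P.σ (P.Ψ (Pi.single (none : GolayPt) 1) : Γ) = pairEl none from hσsingle none,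
        show pairEl none = 1 from fEl_last, mul_one]
      have := P.seven_prod
      rw [show P.seven = sevenIdx.map rep24.pt from rfl, List.map_map] at this
      rw [← this]
      refine congrArg List.prod (List.map_congr_left fun i _ => ?_)
      exact hσsingle _
    · obtain ⟨ha, ha'⟩ := helem threeCodes.1 (by simp [usedCodes])
      obtain ⟨hb, hb'⟩ := helem threeCodes.2.1 (by simp [usedCodes])
      obtain ⟨hc, hc'⟩ := helem threeCodes.2.2 (by simp [usedCodes])
      refine ⟨⟨_, ha'⟩, ⟨_, hb'⟩, ⟨_, hc'⟩, ?_⟩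
      rw [tv_maskVec ha, tv_maskVec hb, tv_maskVec hc, ← maskVec_xor]
      have h3 := three_ok
      rw [Nat.beq_eq] at h3
      rw [← h3]
      rfl
    · intro v
      let elem : ℕ → M24 := fun c => if hc : c ∈ usedCodes then ⟨_, (helem c hc).2⟩ else 1
      let pts : List ℕ := (List.range 24).filter fun a => nbMask.testBit a && decide (v (rep24.pt a) = 1)
      refine ⟨pts.map fun a => elem ((coverCode a).getD 0 0), fun p hB hne => ?_⟩
      have hp24 := ptIdx_lt p
      have hp23 : ptIdx p < 23 := by
        rcases p with _ | x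
        · exact absurd rfl hne
        · exact x.val_lt
      have hnb : nbMask.testBit (ptIdx p) = true := by
        by_contra hb
        exact hB (tri_nb _ hp23 (by simpa using hb))
      have hterm : ∀ a ∈ pts, Pairs.tv (elem ((coverCode a).getD 0 0)) oct p =
          if a = ptIdx p then 1 else 0 := by
        intro a ha
        simp only [pts, List.mem_filter, List.mem_range, Bool.and_eq_true] at ha
        obtain ⟨ha24, hanb, -⟩ := ha
        have hc := allBelow_eq_true.1 cover_ok a ha24
        simp only [coverB, hanb, Bool.not_true, Bool.false_or, Bool.and_eq_true, beq_iff_eq,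
          Nat.beq_eq] at hc
        have hmem : (coverCode a).getD 0 0 ∈ usedCodes := by
          refine List.mem_append_right _ (List.mem_flatMap.2 ⟨a, List.mem_range.2 ha24, ?_⟩)
          rw [List.getD_eq_getElem _ _ (by omega)]
          exact List.getElem_mem _
        simp only [elem, dif_pos hmem]
        show Pairs.tv _ (maskVec octMask) p = _
        rw [tv_maskVec (helem _ hmem).1]
        have hbit := congrArg (fun k => Nat.testBit k (ptIdx p)) hc.2
        simp only [Nat.zero_testBit] at hbit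
        rw [show Nat.land (Nat.xor (imgMask ((coverCode a).getD 0 0) octMask) (Nat.pow 2 a)) nbMask =
          (imgMask ((coverCode a).getD 0 0) octMask ^^^ 2 ^ a) &&& nbMask from rfl] at hbit
        rw [Nat.testBit_and, hnb, Bool.and_true, Nat.testBit_xor, Nat.testBit_two_pow] at hbit
        have hb : (imgMask ((coverCode a).getD 0 0) octMask).testBit (ptIdx p) = decide (a = ptIdx p) := by
          revert hbit
          cases (imgMask ((coverCode a).getD 0 0) octMask).testBit (ptIdx p) <;>
            cases decide (a = ptIdx p) <;> decide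
        simp only [maskVec, hb, decide_eq_true_iff]
      have hsum : ((pts.map fun a => elem ((coverCode a).getD 0 0)).map fun m => Pairs.tv m oct).sum p =
          (pts.map fun a => if a = ptIdx p then (1 : ZMod 2) else 0).sum := by
        rw [List.map_map]
        clear_value pts
        induction pts with
        | nil => rfl
        | cons a l ih =>
          rw [List.map_cons, List.sum_cons, List.map_cons, List.sum_cons, Pi.add_apply,
            ih fun b hb => hterm b (List.mem_cons_of_mem _ hb), Function.comp_apply,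
            hterm a List.mem_cons_self]
      rw [hsum, List.sum_map_eq_nsmul_single (ptIdx p) _ (fun a hne _ => if_neg hne), if_pos rfl]
      have hnd : pts.Nodup := List.nodup_range.filter _
      have hval : v p = 0 ∨ v p = 1 := by generalize v p = a; revert a; decide
      rcases hval with h0 | h1
      · rw [h0, List.count_eq_zero.2 (fun hm => ?_)]
        · simp
        · simp only [pts, List.mem_filter, Bool.and_eq_true, decide_eq_true_iff] at hm
          rw [rep24_pt_ptIdx, h0] at hm
          exact absurd hm.2.2 (by decide)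
      · rw [h1, List.count_eq_one_of_mem hnd]
        · decide
        · simp only [pts, List.mem_filter, List.mem_range, Bool.and_eq_true, decide_eq_true_iff]
          exact ⟨hp24, hnb, by rw [rep24_pt_ptIdx, h1]⟩
    · intro v hv hone
      have hv' : v = ((triB.map Prod.fst).map fun i => v (rep24.pt i) • Pi.single (rep24.pt i) 1).sum := by
        funext p
        have happ : ∀ l : List (GolayPt → ZMod 2), l.sum p = (l.map fun f => f p).sum := by
          intro l
          induction l with
          | nil => rfl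
          | cons f l ih => simp [ih]
        rw [happ, List.map_map, List.sum_map_eq_nsmul_single (ptIdx p) _ (fun i hne hi => ?_)]
        · by_cases hp : ptIdx p ∈ triB.map Prod.fst
          · rw [List.count_eq_one_of_mem tri_nodup hp]
            simp [rep24_pt_ptIdx]
          · rw [List.count_eq_zero.2 hp, zero_smul, hv p hp]
        · obtain ⟨q, hq, rfl⟩ := List.mem_map.1 hi
          have h23 := (tri_small q hq).1
          simp only [Function.comp_apply, Pi.smul_apply]
          rw [Pi.single_eq_of_ne (fun e => hne (by rw [e, ptIdx_rep24 (by omega)])), smul_zero]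
      rw [hv', P.Ψ_sum, Subgroup.val_list_prod, map_list_prod, List.map_map, List.map_map] at hone
      have hpow : ∀ i, P.σ ((P.Ψ (v (rep24.pt i) • Pi.single (rep24.pt i) 1) : P.E) : Γ) =
          pairEl (rep24.pt i) ^ (v (rep24.pt i)).val := by
        intro i
        have hval : v (rep24.pt i) = 0 ∨ v (rep24.pt i) = 1 := by
          generalize v (rep24.pt i) = a; revert a; decide
        rcases hval with h0 | h1
        · rw [h0, zero_smul, P.Ψ_zero, Subgroup.coe_one, map_one, ZMod.val_zero, pow_zero]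
        · rw [h1, one_smul, ZMod.val_one, pow_one]
          exact hσsingle _
      have htri : ∀ (t : List (ℕ × ℕ)) (ht : ∀ q ∈ t, q.1 < 23 ∧ q.2 < 2 ^ 112), triRow t = true →
          (t.pmap (fun q hq => (rho (fEl q.1), (⟨q.2, hq.2⟩ : Vec 112), rep24.pt q.1)) ht).Pairwise
            (fun p q => q.1 p.2.1 = p.2.1) ∧
          ∀ p ∈ t.pmap (fun q hq => (rho (fEl q.1), (⟨q.2, hq.2⟩ : Vec 112), rep24.pt q.1)) ht,
            p.1 p.2.1 ≠ p.2.1 := by
        intro t
        induction t with
        | nil => intro ht _; simp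
        | cons q t ih =>
          intro ht htr
          have htr' : (!(Nat.beq (app (fCols q.1) q.2) q.2) &&
              t.all (fun r => Nat.beq (app (fCols r.1) q.2) q.2) && triRow t) = true := htr
          simp only [Bool.and_eq_true, Bool.not_eq_true', List.all_eq_true] at htr'
          obtain ⟨⟨hq, hall⟩, hrest⟩ := htr'
          obtain ⟨ih1, ih2⟩ := ih (fun r hr => ht r (List.mem_cons_of_mem _ hr)) hrest
          rw [List.pmap_cons]
          refine ⟨List.pairwise_cons.2 ⟨fun p hp => ?_, ih1⟩, fun p hp => ?_⟩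
          · obtain ⟨r, hr, rfl⟩ := List.mem_pmap.1 hp
            apply Subtype.ext
            show (rho (fEl r.1) _).1 = q.2
            rw [rho_fEl_apply (by have := (ht r (List.mem_cons_of_mem _ hr)).1; omega)]
            exact Nat.eq_of_beq_eq_true (hall r hr)
          · rcases List.mem_cons.1 hp with rfl | hp
            · intro hc
              have hc' := congrArg Subtype.val hc
              rw [rho_fEl_apply (by have := (ht q List.mem_cons_self).1; omega)] at hc'
              have hq' : Nat.beq (app (fCols q.1) q.2) q.2 = true := Nat.beq_eq.symm ▸ hc'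
              rw [hq] at hq'
              exact Bool.noConfusion hq'
            · exact ih2 p hp
      obtain ⟨hpw, hmv⟩ := htri triB tri_small tri_ok
      have hzero := exponents_eq_zero _ v hpw hmv (by
        rw [List.map_pmap]
        rw [← map_one rho, ← hone, map_list_prod, List.map_map, List.map_map]
        dsimp only
        rw [List.pmap_eq_map]
        refine congrArg List.prod (List.map_congr_left fun q hq => ?_)
        simp only [Function.comp_apply]
        rw [hpow, map_pow, pairEl, ptIdx_rep24 (by have := (tri_small q hq).1; omega)])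
      funext p
      by_cases hp : ptIdx p ∈ triB.map Prod.fst
      · obtain ⟨q, hq, he⟩ := List.mem_map.1 hp
        have := hzero _ (List.mem_pmap.2 ⟨q, hq, rfl⟩)
        dsimp only at this
        rwa [he, rep24_pt_ptIdx] at this
      · exact hv p hp
  -- the group of the pairs meets the group of the code trivially
  have hMN : ∀ m : M24, ι m ∈ (P.A).map σ → m = 1 := by
    have hn : (((P.A).map σ).comap ι).Normal := ⟨fun n hn g => by
      obtain ⟨a, ha, hae⟩ := Subgroup.mem_map.1 (Subgroup.mem_comap.1 hn)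
      refine Subgroup.mem_comap.2 ⟨P.s g * a * (P.s g)⁻¹, P.A_conj ha g, ?_⟩
      rw [map_mul, map_mul, map_inv, hae, map_mul, map_mul, map_inv]
      show σ (s g) * _ * (σ (s g))⁻¹ = _
      rw [hσs]⟩
    have : IsSimpleGroup M24 := isSimpleGroup_m24
    rcases hn.eq_bot_or_eq_top with hb | ht
    · intro m hm
      exact Subgroup.mem_bot.1 (hb ▸ Subgroup.mem_comap.2 hm)
    · exfalso
      have hab : ∀ a b : M24, a * b = b * a := fun a b => hι (by
        obtain ⟨x, hx, hxe⟩ := Subgroup.mem_map.1 (Subgroup.mem_comap.1 (ht ▸ Subgroup.mem_top a :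
          a ∈ ((P.A).map σ).comap ι))
        obtain ⟨y, hy, hye⟩ := Subgroup.mem_map.1 (Subgroup.mem_comap.1 (ht ▸ Subgroup.mem_top b :
          b ∈ ((P.A).map σ).comap ι))
        obtain ⟨u, rfl⟩ := hx
        obtain ⟨w, rfl⟩ := hy
        rw [map_mul, map_mul, ← hxe, ← hye, ← map_mul, ← map_mul,
          P.E_comm _ (P.Ψ u).2 _ (P.Ψ w).2])
      have hp : (Nat.card M24).Prime := by
        letI : CommGroup M24 := { (inferInstance : Group M24) with mul_comm := hab }
        have : Finite M24 := Nat.finite_of_card_ne_zero (by rw [card_m24]; norm_num)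
        exact IsSimpleGroup.prime_card
      rw [card_m24] at hp
      norm_num at hp
  refine ⟨P.H, ?_, fun z hz => P.pow_index_eq_one S hperf hMN hz⟩
  -- the order of the subgroup below
  let Bt := {p : GolayPt // B p}
  let ext : (Bt → ZMod 2) → GolayPt → ZMod 2 := fun u p => if hp : B p then u ⟨p, hp⟩ else 0
  let f : (Bt → ZMod 2) × M24 → P.H := fun q =>
    ⟨σ ((P.Ψ (ext q.1) : Γ) * s q.2), ⟨_, ⟨_, ⟨_, rfl⟩, q.2, rfl⟩, rfl⟩⟩
  have hbij : Function.Bijective f := by
    constructor
    · rintro ⟨u, m⟩ ⟨u', m'⟩ he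
      have he' : σ (P.Ψ (ext u) : Γ) * ι m = σ (P.Ψ (ext u') : Γ) * ι m' := by
        have := congrArg Subtype.val he
        simpa [f, hσs] using this
      have hm : m * m'⁻¹ = 1 := by
        refine hMN _ ⟨((P.Ψ (ext u) : Γ))⁻¹ * P.Ψ (ext u'), mul_mem (inv_mem ⟨_, rfl⟩) ⟨_, rfl⟩, ?_⟩
        rw [map_mul, map_inv, map_mul, map_inv]
        calc (σ (P.Ψ (ext u) : Γ))⁻¹ * σ (P.Ψ (ext u') : Γ)
            = (σ (P.Ψ (ext u) : Γ))⁻¹ * (σ (P.Ψ (ext u') : Γ) * ι m') * (ι m')⁻¹ := by group
          _ = ι m * (ι m')⁻¹ := by rw [← he']; group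
      obtain rfl : m = m' := mul_inv_eq_one.1 hm
      have he2 : σ (P.Ψ (ext u) : Γ) = σ (P.Ψ (ext u') : Γ) := mul_right_cancel he'
      have hdiff := S.indep (ext u + ext u') (fun p hp => by simp [ext, hp]) (by
        show σ _ = 1
        rw [P.Ψ_add, Subgroup.coe_mul, map_mul, he2, ← map_mul, ← Subgroup.coe_mul, P.Ψ_neg,
          Subgroup.coe_one, map_one])
      refine Prod.ext ?_ rfl
      funext p
      have h2 := congrFun hdiff p.1
      simp only [Pi.add_apply, Pi.zero_apply, ext, dif_pos p.2] at h2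
      exact CharTwo.add_eq_zero.1 h2
    · rintro ⟨g, k, ⟨a, ⟨v, rfl⟩, m, rfl⟩, rfl⟩
      obtain ⟨w, hw, he⟩ := P.Ψ_normal_form S v
      refine ⟨(fun p => w p.1, m), Subtype.ext ?_⟩
      have hext : ext (fun p : Bt => w p.1) = w := by
        funext p
        by_cases hp : B p
        · simp [ext, hp]
        · simp [ext, hp, hw p hp]
      simp only [f, hext, he]
      rfl
  rw [← Nat.card_eq_of_bijective f hbij, Nat.card_prod, card_m24, Nat.card_fun, Nat.card_zmod]
  refine mul_dvd_mul_right (pow_dvd_pow 2 ?_) _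
  let g : Fin 11 → Bt := fun i => ⟨rep24.pt ((triB.map Prod.fst).getD i.1 0), by
    show ptIdx _ ∈ _
    have hmem : (triB.map Prod.fst).getD i.1 0 ∈ triB.map Prod.fst := by
      rw [List.getD_eq_getElem _ _ (by exact i.2)]
      exact List.getElem_mem _
    obtain ⟨q, hq, he⟩ := List.mem_map.1 hmem
    rw [ptIdx_rep24 (by have := (tri_small q hq).1; omega)]
    exact hmem⟩
  have hg : Function.Injective g := by
    intro i j hij
    have hb : ∀ k : Fin 11, (triB.map Prod.fst).getD k.1 0 < 23 := by decide +kernel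
    have := congrArg (fun p : Bt => ptIdx p.1) hij
    simp only [g, ptIdx_rep24 (show _ < 24 from (hb i).trans (by norm_num)),
      ptIdx_rep24 (show _ < 24 from (hb j).trans (by norm_num))] at this
    rw [List.getD_eq_getElem _ _ (by exact i.2), List.getD_eq_getElem _ _ (by exact j.2)] at this
    exact Fin.ext (tri_nodup.getElem_inj_iff.1 this)
  have : Finite Bt := Finite.of_injective (fun p : Bt => (⟨ptIdx p.1, ptIdx_lt _⟩ : Fin 24))
    fun a b hab => Subtype.ext (ptIdx_injective (congrArg Fin.val hab))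
  simpa using Nat.card_le_card_of_injective g hg

include hσ in
theorem eleven_kills (h : IsJ4 Spor.J4) : ∃ W : Subgroup Spor.J4,
    11 ^ 3 ∣ Nat.card W ∧ ∀ z ∈ σ.ker, z ^ W.index = 1 := by
  have hinj := rho_injective h
  obtain ⟨hsurj, hker, -⟩ := id hσ
  have hperf := Co2Mult.perfect_of_stem σ hσ (perfect_j4 h)
  have hfin : Finite Spor.J4 := Nat.finite_of_card_ne_zero (by rw [h.2]; norm_num)
  have : Fact (Nat.Prime 11) := ⟨by norm_num⟩
  let z₀ := J4Lower.el J4Lower.zW
  let a := J4Lower.el J4Lower.aW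
  let b := J4Lower.el J4Lower.bW
  let t := J4Lower.el invertW
  have happ : ∀ u v, J4Lower.el (u ++ v) = J4Lower.el u * J4Lower.el v := fun u v => by
    rw [J4Lower.el, J4Lower.el, J4Lower.el, ← map_mul, FreeGroup.mul_mk]
  have hpw : ∀ (n : ℕ) (w), J4Lower.el (J4Lower.powW n w) = J4Lower.el w ^ n := by
    intro n w
    induction n with
    | zero => exact (congrArg _ FreeGroup.one_eq_mk.symm).trans (map_one _)
    | succ n ih => rw [pow_succ', ← ih, ← happ]; rfl
  have hiv : ∀ w, J4Lower.el (J4Lower.invW w) = (J4Lower.el w)⁻¹ := fun w => by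
    rw [J4Lower.el, J4Lower.el, ← map_inv, FreeGroup.inv_mk]
    rfl
  have hid : ∀ w, idB mat 112 w = true → J4Lower.el w = 1 := fun w hw =>
    hinj ((congrArg Subtype.val (J4Lower.im_eq_one hw)).trans (map_one rho).symm)
  have hcomm : ∀ u v, idB mat 112 (J4Lower.invW u ++ J4Lower.invW v ++ u ++ v) = true →
      J4Lower.el u * J4Lower.el v = J4Lower.el v * J4Lower.el u := fun u v hw =>
    hinj (by
      rw [map_mul, map_mul]
      exact congrArg Subtype.val (J4Lower.comm_of hw))
  have hza : z₀ * a = a * z₀ := hcomm _ _ J4Lower.za_ok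
  have hzb : z₀ * b = b * z₀ := hcomm _ _ J4Lower.zb_ok
  have hab : a * b = b * a * z₀ ^ 8 := hinj (by
    rw [map_mul, map_mul, map_mul, map_pow]
    exact congrArg Subtype.val J4Lower.ab_eq)
  have hz11 : z₀ ^ 11 = 1 := (hpw 11 _).symm.trans (hid _ J4Lower.z_pow_ok)
  have ha11 : a ^ 11 = 1 := (hpw 11 _).symm.trans (hid _ J4Lower.a_pow_ok)
  have hb11 : b ^ 11 = 1 := (hpw 11 _).symm.trans (hid _ J4Lower.b_pow_ok)
  have hz1 : z₀ ≠ 1 := fun he => J4Lower.im_moves (w := J4Lower.zW) (by simp)
    (Subtype.ext (by show rho z₀ = 1; rw [he, map_one]))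
  have hta : t * a * t⁻¹ = a⁻¹ := by
    have h1 := hid _ inv_a_ok
    rw [happ, happ, happ, hiv] at h1
    exact eq_inv_of_mul_eq_one_left h1
  have htb : t * b * t⁻¹ = b⁻¹ * (z₀ ^ 8) ^ (4 : ℤ) := by
    have h1 := hid _ inv_b_ok
    rw [happ, happ, happ, happ, hiv, hiv, hpw] at h1
    have h32 : (z₀ ^ 8) ^ (4 : ℤ) = z₀ ^ 10 := by
      rw [zpow_ofNat, ← pow_mul]
      rw [show 8 * 4 = 11 * 2 + 10 from rfl, pow_add, pow_mul, hz11, one_pow, one_mul]
    have hbz : Commute b⁻¹ (z₀ ^ 10) := ((show Commute z₀ b from hzb).pow_left 10).symm.inv_left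
    rw [h32, hbz.eq]
    calc t * b * t⁻¹ = (t * b * t⁻¹ * b * (z₀ ^ 10)⁻¹) * (z₀ ^ 10 * b⁻¹) := by group
      _ = z₀ ^ 10 * b⁻¹ := by rw [h1, one_mul]
  have htz : t * z₀ * t⁻¹ = z₀ := by
    have h1 := hid _ inv_z_ok
    rw [happ, happ, happ, hiv, hiv] at h1
    exact mul_inv_eq_one.1 h1
  have hc : z₀ ^ 8 = ⁅a, b⁆ := by
    have h1 : z₀ ^ 8 * a⁻¹ = a⁻¹ * z₀ ^ 8 := ((show Commute z₀ a from hza).pow_left 8).inv_right.eq
    have h2 : z₀ ^ 8 * b⁻¹ = b⁻¹ * z₀ ^ 8 := ((show Commute z₀ b from hzb).pow_left 8).inv_right.eq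
    calc z₀ ^ 8 = b * (z₀ ^ 8 * b⁻¹) := by rw [h2, mul_inv_cancel_left]
      _ = b * (a * (z₀ ^ 8 * a⁻¹)) * b⁻¹ := by rw [h1, mul_inv_cancel_left, mul_assoc]
      _ = ⁅a, b⁆ := by rw [commutatorElement_def, hab]; simp only [mul_assoc]
  have hac : a * z₀ ^ 8 = z₀ ^ 8 * a := ((show Commute z₀ a from hza).pow_left 8).eq.symm
  have hbc : b * z₀ ^ 8 = z₀ ^ 8 * b := ((show Commute z₀ b from hzb).pow_left 8).eq.symm
  have hord : orderOf z₀ = 11 := orderOf_eq_prime hz11 hz1
  have hc1 : z₀ ^ 8 ≠ 1 := fun he => by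
    have := orderOf_dvd_of_pow_eq_one he
    rw [hord] at this
    norm_num at this
  refine ⟨Subgroup.closure ({a, b} : Set Spor.J4), ?_, fun z hz =>
    eleven_pow_index σ hsurj hker hperf hc hac hbc ha11 hc1 0 4 (by rw [hta, zpow_zero, mul_one]) htb
      (by rw [← conj_pow, htz]) hz⟩
  set W := Subgroup.closure ({a, b} : Set Spor.J4) with hW
  have hzW : z₀ ∈ W := by
    have h8 : z₀ ^ 8 ∈ W := by
      rw [hc, commutatorElement_def]
      have ha' : a ∈ W := Subgroup.subset_closure (Set.mem_insert _ _)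
      have hb' : b ∈ W := Subgroup.subset_closure (Set.mem_insert_of_mem _ rfl)
      exact mul_mem (mul_mem (mul_mem ha' hb') (inv_mem ha')) (inv_mem hb')
    have : (z₀ ^ 8) ^ 7 = z₀ := by
      rw [← pow_mul, show 8 * 7 = 11 * 5 + 1 from rfl, pow_add, pow_mul, hz11, one_pow, one_mul,
        pow_one]
    exact this ▸ pow_mem h8 7
  exact J4Lower.pow_three_dvd 11 (⟨z₀, hzW⟩ : W) ⟨a, Subgroup.subset_closure (Set.mem_insert _ _)⟩
    ⟨b, Subgroup.subset_closure (Set.mem_insert_of_mem _ rfl)⟩ 8 (by norm_num) (Subtype.ext hz11)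
    (fun he => hz1 (congrArg Subtype.val he)) (Subtype.ext ha11) (Subtype.ext hb11)
    (Subtype.ext hza.symm) (Subtype.ext hzb.symm) (Subtype.ext hab)

include hσ in
theorem ker_eq_bot (h : IsJ4 Spor.J4) : σ.ker = ⊥ := by
  obtain ⟨H, hH, hHz⟩ := exists_H σ hσ h
  obtain ⟨W, hW, hWz⟩ := eleven_kills σ hσ h
  obtain ⟨hsurj, hker, -⟩ := id hσ
  have hperf := Co2Mult.perfect_of_stem σ hσ (perfect_j4 h)
  have hfin : Finite Spor.J4 := Nat.finite_of_card_ne_zero (by rw [h.2]; norm_num)
  rw [Subgroup.eq_bot_iff_forall]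
  intro z hz
  rw [← orderOf_eq_one_iff]
  have key : ∀ (S : Subgroup Spor.J4) (n : ℕ), n ∣ Nat.card S → n ≠ 0 → z ^ S.index = 1 →
      n * orderOf z ∣ 86775571046077562880 := fun S n hn _ he =>
    (mul_dvd_mul_left n (orderOf_dvd_of_pow_eq_one he)).trans (sub_index_dvd h hn)
  have hcyc : ∀ p : ℕ, p.Prime → p ∣ Nat.card Spor.J4 → p * orderOf z ∣ 86775571046077562880 := by
    intro p hp hpd
    have := Fact.mk hp
    obtain ⟨g, hg⟩ := exists_prime_orderOf_dvd_card' p hpd
    exact key (Subgroup.zpowers g) p (by rw [Nat.card_zpowers, hg]) hp.ne_zero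
      (Co2Mult.pow_index_eq_one_of_cyclic σ hsurj hker hperf g hz)
  have d1 := Nat.dvd_div_of_mul_dvd (key H _ hH (by norm_num) (hHz z hz))
  have d2 := Nat.dvd_div_of_mul_dvd (key W _ hW (by norm_num) (hWz z hz))
  have d29 := Nat.dvd_div_of_mul_dvd (hcyc 29 (by norm_num) (by rw [h.2]; norm_num))
  have d31 := Nat.dvd_div_of_mul_dvd (hcyc 31 (by norm_num) (by rw [h.2]; norm_num))
  have d37 := Nat.dvd_div_of_mul_dvd (hcyc 37 (by norm_num) (by rw [h.2]; norm_num))
  have d43 := Nat.dvd_div_of_mul_dvd (hcyc 43 (by norm_num) (by rw [h.2]; norm_num))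
  have hall := Nat.dvd_gcd (Nat.dvd_gcd (Nat.dvd_gcd d1 d2) (Nat.dvd_gcd d29 d31)) (Nat.dvd_gcd d37 d43)
  exact Nat.dvd_one.1 (hall.trans (by norm_num))

omit σ in
/-- The multiplier of the presented J4 is trivial, given that it is simple of the expected order. -/
theorem multiplier (h : IsJ4 Spor.J4) : Cfsg.HasCyclicSchurMultiplier Spor.J4 1 := by
  have : Finite Spor.J4 := Nat.finite_of_card_ne_zero (by rw [h.2]; norm_num)
  exact ProjExt.Stem.hasCyclicSchurMultiplier_one fun Γ _ _ σ hσ => ker_eq_bot σ hσ h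

end Cfsg.Agent.J4Mult
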