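import Cfsg.Agent.Co2Mult.Transfer

/-!
# A central extension over an elementary abelian group indexed by pairs of points

`e a` stands for the element of the pair formed by a fixed point `o` and `a`.  A group `M` moving
the points transitively on ordered triples conjugates these elements accordingly and lifts to the
extension.  Then the lifts can be chosen equivariantly, commuting and of exponent two.
-/

set_option autoImplicit false

namespace Cfsg.Agent.J4Mult

open scoped commutatorElement IsMulCommutative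

/-- The hypotheses. -/
structure Pairs (Γ G M Ω : Type*) [Group Γ] [Group G] [Group M] [MulAction M Ω] where
  σ : Γ →* G
  surj : Function.Surjective σ
  central : σ.ker ≤ Subgroup.center Γ
  ι : M →* G
  s : M →* Γ
  σ_s : ∀ m, σ (s m) = ι m
  o : Ω
  e : Ω → G
  e_o : e o = 1
  e_sq : ∀ a, e a * e a = 1
  e_comm : ∀ a b, e a * e b = e b * e a
  e_conj : ∀ m a, ι m * e a * (ι m)⁻¹ = e (m • o) * e (m • a)
  trans3 : ∀ a b c a' b' c' : Ω, a ≠ b → a ≠ c → b ≠ c → a' ≠ b' → a' ≠ c' → b' ≠ c' →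
    ∃ m : M, m • a = a' ∧ m • b = b' ∧ m • c = c'
  a0 : Ω
  b0 : Ω
  a0_ne : a0 ≠ o
  b0_ne : b0 ≠ o
  a0_b0 : a0 ≠ b0
  perfect2 : commutator ↥(MulAction.stabilizer M o ⊓ MulAction.stabilizer M a0) = ⊤
  seven : List Ω
  seven_len : seven.length = 7
  out : Ω
  out_ne : out ≠ o
  seven_ok : ∀ a ∈ seven, a ≠ o ∧ a ≠ out
  seven_prod : (seven.map e).prod = 1

namespace Pairs

variable {Γ G M Ω : Type*} [Group Γ] [Group G] [Group M] [MulAction M Ω] (P : Pairs Γ G M Ω)

theorem σ_ker_mul {x : Γ} (hx : x ∈ P.σ.ker) (y : Γ) : y * x = x * y :=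
  Subgroup.mem_center_iff.1 (P.central hx) y

include P in
theorem trans2 {a b a' b' : Ω} (h : a ≠ b) (h' : a' ≠ b') : ∃ m : M, m • a = a' ∧ m • b = b' := by
  have key : ∀ u v : Ω, ∃ w, w ≠ u ∧ w ≠ v := by
    intro u v
    have := P.a0_ne
    have := P.b0_ne
    have := P.a0_b0
    by_cases h1 : P.o ≠ u ∧ P.o ≠ v
    · exact ⟨P.o, h1⟩
    by_cases h2 : P.a0 ≠ u ∧ P.a0 ≠ v
    · exact ⟨P.a0, h2⟩
    refine ⟨P.b0, ?_, ?_⟩ <;> intro e <;> subst e <;> rw [not_and_or, not_not, not_not] at h1 h2 <;>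
      rcases h1 with h1 | h1 <;> rcases h2 with h2 | h2 <;> simp_all
  obtain ⟨c, hc1, hc2⟩ := key a b
  obtain ⟨c', hc1', hc2'⟩ := key a' b'
  obtain ⟨m, hm1, hm2, -⟩ := P.trans3 a b c a' b' c' h hc1.symm hc2.symm h' hc1'.symm hc2'.symm
  exact ⟨m, hm1, hm2⟩

/-! ## The lifts commute -/

/-- A lift. -/
noncomputable def lift (g : G) : Γ := Function.surjInv P.surj g

theorem σ_lift (g : G) : P.σ (P.lift g) = g := Function.surjInv_eq P.surj g

theorem comm_eq {x x' y y' : Γ} (hx : P.σ x = P.σ x') (hy : P.σ y = P.σ y') :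
    ⁅x, y⁆ = ⁅x', y'⁆ := by
  have h1 : x'⁻¹ * x ∈ P.σ.ker := by rw [MonoidHom.mem_ker, map_mul, map_inv, hx, inv_mul_cancel]
  have h2 : y'⁻¹ * y ∈ P.σ.ker := by rw [MonoidHom.mem_ker, map_mul, map_inv, hy, inv_mul_cancel]
  conv_lhs => rw [show x = x' * (x'⁻¹ * x) by group, show y = y' * (y'⁻¹ * y) by group]
  exact Cfsg.Agent.StemCert.commutator_mul_central x' y' (P.central h1) (P.central h2)

/-- The commutator of lifts. -/
noncomputable def K (g h : G) : Γ := ⁅P.lift g, P.lift h⁆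

theorem K_eq {g h : G} {x y : Γ} (hx : P.σ x = g) (hy : P.σ y = h) : P.K g h = ⁅x, y⁆ :=
  P.comm_eq (by rw [σ_lift, hx]) (by rw [σ_lift, hy])

theorem K_mem {g h : G} (hgh : g * h = h * g) : P.K g h ∈ P.σ.ker := by
  rw [MonoidHom.mem_ker, K, map_commutatorElement, σ_lift, σ_lift,
    commutatorElement_eq_one_iff_mul_comm]
  exact hgh

theorem K_one (h : G) : P.K 1 h = 1 := by
  rw [P.K_eq (x := 1) (y := P.lift h) (map_one _) (P.σ_lift h), commutatorElement_one_left]

theorem K_mul {g g' h : G} (h' : g' * h = h * g') : P.K (g * g') h = P.K g h * P.K g' h := by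
  rw [P.K_eq (x := P.lift g * P.lift g') (y := P.lift h) (by rw [map_mul, σ_lift, σ_lift]) (P.σ_lift h)]
  have hz := P.σ_ker_mul (P.K_mem h') (P.lift g)
  have hz' := P.σ_ker_mul (P.K_mem h') (P.K g h)
  calc ⁅P.lift g * P.lift g', P.lift h⁆
      = P.lift g * P.K g' h * (P.lift g)⁻¹ * P.K g h := by
        simp only [K, commutatorElement_def]; group
    _ = P.K g h * P.K g' h := by rw [hz, mul_inv_cancel_right, hz']

theorem K_invariant {g h : G} (hgh : g * h = h * g) (m : M) :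
    P.K (P.ι m * g * (P.ι m)⁻¹) (P.ι m * h * (P.ι m)⁻¹) = P.K g h := by
  rw [P.K_eq (x := P.s m * P.lift g * (P.s m)⁻¹) (y := P.s m * P.lift h * (P.s m)⁻¹)
    (by simp [σ_s, σ_lift]) (by simp [σ_s, σ_lift])]
  calc ⁅P.s m * P.lift g * (P.s m)⁻¹, P.s m * P.lift h * (P.s m)⁻¹⁆
      = P.s m * P.K g h * (P.s m)⁻¹ := by simp only [K, commutatorElement_def]; group
    _ = P.K g h := by rw [P.σ_ker_mul (P.K_mem hgh), mul_inv_cancel_right]

theorem e_commute_prod (i : Ω) (l : List Ω) : (l.map P.e).prod * P.e i = P.e i * (l.map P.e).prod := by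
  refine (Commute.list_prod_left _ _ fun x hx => ?_).eq
  obtain ⟨b, -, rfl⟩ := List.mem_map.1 hx
  exact P.e_comm b i

theorem K_prod (i : Ω) (c : Γ) : ∀ l : List Ω, (∀ a ∈ l, P.K (P.e a) (P.e i) = c) →
    P.K (l.map P.e).prod (P.e i) = c ^ l.length
  | [], _ => by simp [K_one]
  | a :: l, h => by
    rw [List.map_cons, List.prod_cons, P.K_mul (P.e_commute_prod i l),
      h a List.mem_cons_self, K_prod i c l (fun b hb => h b (List.mem_cons_of_mem _ hb)),
      List.length_cons, pow_succ']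

theorem K_const {a b : Ω} (ha : a ≠ P.o) (hb : b ≠ P.o) (hab : a ≠ b) :
    P.K (P.e a) (P.e b) = P.K (P.e P.a0) (P.e P.b0) := by
  obtain ⟨m, h1, h2, h3⟩ := P.trans3 P.o P.a0 P.b0 P.o a b P.a0_ne.symm P.b0_ne.symm P.a0_b0
    ha.symm hb.symm hab
  have := P.K_invariant (P.e_comm P.a0 P.b0) m
  rwa [P.e_conj, P.e_conj, h1, h2, h3, P.e_o, one_mul, one_mul] at this

theorem K_base : P.K (P.e P.a0) (P.e P.b0) = 1 := by
  have h7 : P.K (P.e P.a0) (P.e P.b0) ^ 7 = 1 := by
    have := P.K_prod P.out (P.K (P.e P.a0) (P.e P.b0)) P.seven fun a ha =>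
      P.K_const (P.seven_ok a ha).1 P.out_ne (P.seven_ok a ha).2
    rwa [P.seven_prod, P.K_one, P.seven_len, eq_comm] at this
  have h2 : P.K (P.e P.a0) (P.e P.b0) ^ 2 = 1 := by
    rw [pow_two, ← P.K_mul (P.e_comm _ _), P.e_sq, P.K_one]
  have h6 : P.K (P.e P.a0) (P.e P.b0) ^ 6 = 1 := by
    rw [show 6 = 2 * 3 from rfl, pow_mul, h2, one_pow]
  rwa [pow_succ, h6, one_mul] at h7

theorem K_e (a b : Ω) : P.K (P.e a) (P.e b) = 1 := by
  by_cases hab : a = b
  · subst hab
    exact commutatorElement_self _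
  by_cases ha : a = P.o
  · rw [ha, P.e_o, P.K_one]
  by_cases hb : b = P.o
  · rw [hb, P.e_o]
    rw [K, ← commutatorElement_inv]
    exact inv_eq_one.2 (P.K_one _)
  · rw [P.K_const ha hb hab, P.K_base]

/-- The preimage of the subgroup of the pairs. -/
def E : Subgroup Γ := Subgroup.closure (P.σ ⁻¹' Set.range P.e)

theorem E_comm : ∀ x ∈ P.E, ∀ y ∈ P.E, x * y = y * x := by
  have hgen : ∀ x ∈ P.σ ⁻¹' Set.range P.e, ∀ y ∈ P.σ ⁻¹' Set.range P.e, x * y = y * x := by
    rintro x ⟨a, ha⟩ y ⟨b, hb⟩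
    rw [← commutatorElement_eq_one_iff_mul_comm, ← P.K_eq ha.symm hb.symm]
    exact P.K_e a b
  intro x hx y hy
  induction hx, hy using Subgroup.closure_induction₂ with
  | mem x y hx hy => exact hgen x hx y hy
  | one_left x hx => rw [one_mul, mul_one]
  | one_right x hx => rw [one_mul, mul_one]
  | mul_left x y z hx hy hz h1 h2 => exact (Commute.mul_left h1 h2)
  | mul_right x y z hx hy hz h1 h2 => exact (Commute.mul_right h1 h2)
  | inv_left x y hx hy h => exact (Commute.inv_left h)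
  | inv_right x y hx hy h => exact (Commute.inv_right h)

instance : IsMulCommutative ↥P.E := ⟨⟨fun x y => Subtype.ext (P.E_comm x x.2 y y.2)⟩⟩

theorem mem_E_of {x : Γ} {a b : Ω} (h : P.σ x = P.e a * P.e b) : x ∈ P.E := by
  have h1 : P.lift (P.e a) * P.lift (P.e b) ∈ P.E :=
    mul_mem (Subgroup.subset_closure ⟨a, (P.σ_lift _).symm⟩)
      (Subgroup.subset_closure ⟨b, (P.σ_lift _).symm⟩)
  have h2 : ∀ z ∈ P.σ.ker, z ∈ P.E := fun z hz =>
    Subgroup.subset_closure ⟨P.o, by rw [P.e_o, MonoidHom.mem_ker.1 hz]⟩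
  rw [show x = (P.lift (P.e a) * P.lift (P.e b)) * ((P.lift (P.e a) * P.lift (P.e b))⁻¹ * x) by group]
  exact mul_mem h1 (h2 _ (by
    rw [MonoidHom.mem_ker, map_mul, map_inv, map_mul, σ_lift, σ_lift, h, inv_mul_cancel]))

end Pairs

end Cfsg.Agent.J4Mult
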