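import Cfsg.Agent.J4Mult.Lifts

/-!
# The extension splits over the pairs and the group moving the points

The exact lifts give an additive map from the vectors over the field with two elements indexed by
the points.  It is trivial on the translates of a distinguished word, so its image is spanned by the
lifts of the points of a set `B` whose elements are independent below.
-/

set_option autoImplicit false

namespace Cfsg.Agent.J4Mult.Pairs

open scoped commutatorElement IsMulCommutative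

variable {Γ G M Ω : Type*} [Group Γ] [Group G] [Group M] [MulAction M Ω] [Fintype Ω]
  (P : Pairs Γ G M Ω)

/-- The lift attached to a vector. -/
noncomputable def Ψ (v : Ω → ZMod 2) : P.E := ∏ a, P.F P.o a ^ (v a).val

/-- The translate of a vector. -/
def tv (m : M) (v : Ω → ZMod 2) : Ω → ZMod 2 := fun a => v (m⁻¹ • a)

omit [Fintype Ω] in
theorem pow_val_add (x : P.E) (h : x * x = 1) (u v : ZMod 2) :
    x ^ (u + v).val = x ^ u.val * x ^ v.val := by
  have h2 : x ^ 2 = 1 := by rw [pow_two, h]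
  rw [← pow_add, ZMod.val_add, ← pow_eq_pow_mod _ h2]

theorem Ψ_add (v w : Ω → ZMod 2) : P.Ψ (v + w) = P.Ψ v * P.Ψ w := by
  rw [Ψ, Ψ, Ψ, ← Finset.prod_mul_distrib]
  exact Finset.prod_congr rfl fun a _ => P.pow_val_add _ (P.F_sq _ _) _ _

theorem Ψ_zero : P.Ψ 0 = 1 := by simp [Ψ]

theorem Ψ_neg (v : Ω → ZMod 2) : P.Ψ v * P.Ψ v = 1 := by
  rw [← P.Ψ_add, show v + v = 0 by funext a; exact CharTwo.add_self_eq_zero _, Ψ_zero]

theorem Ψ_sum {ι : Type*} (l : List ι) (f : ι → Ω → ZMod 2) :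
    P.Ψ ((l.map f).sum) = (l.map fun i => P.Ψ (f i)).prod := by
  induction l with
  | nil => exact P.Ψ_zero
  | cons i l ih => rw [List.map_cons, List.sum_cons, P.Ψ_add, ih, List.map_cons, List.prod_cons]

theorem Ψ_single [DecidableEq Ω] (a : Ω) : P.Ψ (Pi.single a 1) = P.F P.o a := by
  rw [Ψ, Finset.prod_eq_single a (fun b _ hb => by simp [hb]) (fun h => absurd (Finset.mem_univ a) h)]
  simp [ZMod.val_one]

theorem σ_Ψ (v : Ω → ZMod 2) :
    P.σ (P.Ψ v : Γ) = (Finset.univ.toList.map fun a => P.e a ^ (v a).val).prod := by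
  rw [Ψ, Finset.prod_eq_multiset_prod, ← Finset.coe_toList Finset.univ, Multiset.map_coe,
    Multiset.prod_coe, Subgroup.val_list_prod, map_list_prod, List.map_map, List.map_map]
  refine congrArg List.prod (List.map_congr_left fun a _ => ?_)
  simp only [Function.comp_apply, SubgroupClass.coe_pow, map_pow, σ_F, P.e_o, one_mul]

/-- Even vectors are moved by the group. -/
theorem Ψ_conj (m : M) (v : Ω → ZMod 2) (hv : Even (∑ a, (v a).val)) :
    P.s m * (P.Ψ v : Γ) * (P.s m)⁻¹ = (P.Ψ (tv m v) : Γ) := by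
  let c : P.E →* Γ := ((MulAut.conj (P.s m)).toMonoidHom).comp P.E.subtype
  have hc : ∀ a, c (P.F P.o a) = (P.F P.o (m • P.o) * P.F P.o (m • a) : P.E) := by
    intro a
    show P.s m * (P.F P.o a : Γ) * (P.s m)⁻¹ = _
    rw [F_conj, P.F_symm P.o (m • P.o) |>.symm, F_add]
  have h1 : P.s m * (P.Ψ v : Γ) * (P.s m)⁻¹ = c (P.Ψ v) := rfl
  rw [h1, Ψ]
  have hlist : c (∏ a, P.F P.o a ^ (v a).val) =
      ((∏ a, (P.F P.o (m • P.o) * P.F P.o (m • a)) ^ (v a).val : P.E) : Γ) := by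
    rw [Finset.prod_eq_multiset_prod, Finset.prod_eq_multiset_prod,
      ← Finset.coe_toList Finset.univ, Multiset.map_coe, Multiset.map_coe, Multiset.prod_coe,
      Multiset.prod_coe, map_list_prod, Subgroup.val_list_prod, List.map_map, List.map_map]
    refine congrArg List.prod (List.map_congr_left fun a _ => ?_)
    simp only [Function.comp_apply, map_pow, SubgroupClass.coe_pow, hc]
  rw [hlist]
  congr 1
  simp only [mul_pow, Finset.prod_mul_distrib, Finset.prod_pow_eq_pow_sum]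
  obtain ⟨k, hk⟩ := hv
  rw [hk, ← two_mul, pow_mul, pow_two, F_sq, one_pow, one_mul, Ψ,
    ← Equiv.prod_comp (MulAction.toPerm m) (fun a => P.F P.o a ^ (tv m v a).val)]
  refine Finset.prod_congr rfl fun a _ => ?_
  simp [tv]

/-- The vector condition for the splitting. -/
structure Span (oct : Ω → ZMod 2) (B : Ω → Prop) : Prop where
  even : Even (∑ a, (oct a).val)
  one : P.σ (P.Ψ oct : Γ) = 1
  three : ∃ m₁ m₂ m₃ : M, tv m₁ oct + tv m₂ oct = tv m₃ oct
  cover : ∀ v : Ω → ZMod 2, ∃ l : List M, ∀ a, ¬ B a → a ≠ P.o →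
    v a + ((l.map fun m => tv m oct).sum) a = 0
  indep : ∀ v : Ω → ZMod 2, (∀ a, ¬ B a → v a = 0) → P.σ (P.Ψ v : Γ) = 1 → v = 0

variable {oct : Ω → ZMod 2} {B : Ω → Prop} (S : P.Span oct B)
include S

theorem Ψ_translate (m : M) : P.Ψ (tv m oct) = P.Ψ oct := by
  apply Subtype.ext
  rw [← P.Ψ_conj m oct S.even, P.σ_ker_mul (MonoidHom.mem_ker.2 S.one), mul_inv_cancel_right]

theorem Ψ_oct : P.Ψ oct = 1 := by
  obtain ⟨m₁, m₂, m₃, h⟩ := S.three
  have := congrArg P.Ψ h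
  rw [P.Ψ_add, P.Ψ_translate S, P.Ψ_translate S, P.Ψ_translate S] at this
  exact left_eq_mul.1 this.symm

theorem Ψ_normal_form (v : Ω → ZMod 2) :
    ∃ w : Ω → ZMod 2, (∀ a, ¬ B a → w a = 0) ∧ P.Ψ v = P.Ψ w := by
  obtain ⟨l, hl⟩ := S.cover v
  classical
  refine ⟨fun a => if a = P.o then 0 else (v + (l.map fun m => tv m oct).sum) a, fun a ha => ?_, ?_⟩
  · by_cases h : a = P.o
    · simp only [if_pos h]
    · simp only [if_neg h]
      exact hl a ha h
  have hdrop : ∀ u : Ω → ZMod 2, P.Ψ (fun a => if a = P.o then 0 else u a) = P.Ψ u := by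
    intro u
    refine Finset.prod_congr rfl fun a _ => ?_
    by_cases h : a = P.o
    · simp [h, F_self]
    · simp [h]
  rw [hdrop, P.Ψ_add, P.Ψ_sum]
  rw [List.prod_eq_one (l := l.map fun i => P.Ψ (tv i oct)) (fun x hx => by
    obtain ⟨i, -, rfl⟩ := List.mem_map.1 hx
    rw [P.Ψ_translate S, P.Ψ_oct S]), mul_one]

/-- The image of the lift map. -/
noncomputable def A : Subgroup Γ where
  carrier := Set.range fun v => (P.Ψ v : Γ)
  one_mem' := ⟨0, by show (P.Ψ 0 : Γ) = 1; rw [P.Ψ_zero]; rfl⟩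
  mul_mem' := by
    rintro _ _ ⟨v, rfl⟩ ⟨w, rfl⟩
    exact ⟨v + w, by show (P.Ψ (v + w) : Γ) = _; rw [P.Ψ_add]; rfl⟩
  inv_mem' := by
    rintro _ ⟨v, rfl⟩
    refine ⟨v, (inv_eq_of_mul_eq_one_right ?_).symm⟩
    exact congrArg Subtype.val (P.Ψ_neg v)

theorem A_disjoint {x : Γ} (hx : x ∈ P.A) (h1 : P.σ x = 1) : x = 1 := by
  obtain ⟨v, rfl⟩ := hx
  obtain ⟨w, hw, he⟩ := P.Ψ_normal_form S v
  simp only [he] at h1 ⊢
  rw [S.indep w hw h1, P.Ψ_zero]
  rfl

omit S in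
theorem F_eq [DecidableEq Ω] (a b : Ω) : P.F a b = P.Ψ (Pi.single a 1 + Pi.single b 1) := by
  rw [P.Ψ_add, P.Ψ_single, P.Ψ_single]
  conv_rhs => rw [← P.F_symm P.o a]
  rw [P.F_add]

omit S in
theorem A_conj {x : Γ} (hx : x ∈ P.A) (m : M) : P.s m * x * (P.s m)⁻¹ ∈ P.A := by
  classical
  obtain ⟨v, rfl⟩ := hx
  -- generators suffice
  suffices h : ∀ (t : Finset Ω),
      P.s m * ((∏ a ∈ t, P.F P.o a ^ (v a).val : P.E) : Γ) * (P.s m)⁻¹ ∈ P.A from h Finset.univ
  intro t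
  induction t using Finset.induction with
  | empty => simp
  | insert a t ha ih =>
    rw [Finset.prod_insert ha, Subgroup.coe_mul]
    rw [show P.s m * (((P.F P.o a ^ (v a).val : P.E) : Γ) * ((∏ b ∈ t, P.F P.o b ^ (v b).val : P.E) : Γ)) * (P.s m)⁻¹
      = (P.s m * ((P.F P.o a ^ (v a).val : P.E) : Γ) * (P.s m)⁻¹) *
        (P.s m * ((∏ b ∈ t, P.F P.o b ^ (v b).val : P.E) : Γ) * (P.s m)⁻¹) by group]
    refine mul_mem ?_ ih
    rw [SubgroupClass.coe_pow, ← conj_pow, F_conj]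
    exact pow_mem (show (P.F (m • P.o) (m • a) : Γ) ∈ P.A from ⟨_, congrArg Subtype.val (P.F_eq _ _).symm⟩) _

/-- The subgroup of the extension over the pairs and the group. -/
def K' : Subgroup Γ where
  carrier := {x | ∃ a ∈ P.A, ∃ m, x = a * P.s m}
  one_mem' := ⟨1, one_mem _, 1, by simp⟩
  mul_mem' := by
    rintro _ _ ⟨a, ha, m, rfl⟩ ⟨b, hb, k, rfl⟩
    exact ⟨a * (P.s m * b * (P.s m)⁻¹), mul_mem ha (P.A_conj hb m), m * k, by rw [map_mul]; group⟩
  inv_mem' := by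
    rintro _ ⟨a, ha, m, rfl⟩
    exact ⟨P.s m⁻¹ * a⁻¹ * (P.s m⁻¹)⁻¹, P.A_conj (inv_mem ha) _, m⁻¹, by
      rw [mul_inv_rev, map_inv]; group⟩

/-- The subgroup below. -/
def H : Subgroup G := P.K'.map P.σ

theorem K'_disjoint (hMN : ∀ m : M, P.ι m ∈ P.A.map P.σ → m = 1) {x : Γ} (hx : x ∈ P.K')
    (h1 : P.σ x = 1) : x = 1 := by
  obtain ⟨a, ha, m, rfl⟩ := hx
  have hm : m = 1 := by
    refine hMN m ⟨a⁻¹, inv_mem ha, ?_⟩
    rw [map_mul, σ_s] at h1
    rw [map_inv]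
    exact (eq_inv_of_mul_eq_one_right h1).symm
  subst hm
  rw [map_one, mul_one] at h1 ⊢
  exact P.A_disjoint S ha h1

theorem pow_index_eq_one [Finite Γ] (hperf : commutator Γ = ⊤)
    (hMN : ∀ m : M, P.ι m ∈ P.A.map P.σ → m = 1) {z : Γ} (hz : z ∈ P.σ.ker) :
    z ^ P.H.index = 1 := by
  have h := Cfsg.Agent.Co2Mult.pow_index_mem_commutator hperf (P.H.comap P.σ) (P.central hz)
  rw [Subgroup.index_comap_of_surjective _ P.surj] at h
  have hle : ⁅P.H.comap P.σ, P.H.comap P.σ⁆ ≤ P.K' := by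
    rw [Subgroup.commutator_le]
    intro x hx y hy
    obtain ⟨k, hk, hkx⟩ := Subgroup.mem_map.1 (Subgroup.mem_comap.1 hx)
    obtain ⟨l, hl, hly⟩ := Subgroup.mem_map.1 (Subgroup.mem_comap.1 hy)
    rw [P.comm_eq hkx.symm hly.symm, commutatorElement_def]
    exact mul_mem (mul_mem (mul_mem hk hl) (inv_mem hk)) (inv_mem hl)
  exact P.K'_disjoint S hMN (hle h) (by rw [map_pow, MonoidHom.mem_ker.1 hz, one_pow])

end Cfsg.Agent.J4Mult.Pairs
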